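import Cfsg.Agent.FramePlus.Path
import Cfsg.Agent.SporadicA.FieldFour

/-!
# Curtis–Tits for paths of `SL(3, F)`'s, type `A`: recognition of `PSL(n, F)`, `n ≥ 4`
-/

set_option autoImplicit false

namespace Cfsg.Agent.FramePlus

open scoped Pointwise commutatorElement MatrixGroups
open Matrix

universe u v

variable {G : Type u} [Group G] {F : Type v} [Field F]

theorem u01_pow (c : F) (n : ℕ) : (u01 c) ^ n = u01 (n * c) := by
  induction n with
  | zero =>
    rw [pow_zero, Nat.cast_zero, zero_mul]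
    exact S3.ext' fun i j => by fin_cases i <;> fin_cases j <;> simp [u01]
  | succ n ih =>
    rw [pow_succ, ih]
    apply S3.ext'
    intro i j
    change ((u01 (n * c)).1 * (u01 c).1) i j = (u01 ((n + 1 : ℕ) * c)).1 i j
    rw [u01_val, u01_val, u01_val]
    fin_cases i <;> fin_cases j <;> simp [Matrix.mul_apply, Fin.sum_univ_three]
    ring

theorem u10_pow (c : F) (n : ℕ) : (u10 c) ^ n = u10 (n * c) := by
  induction n with
  | zero =>
    rw [pow_zero, Nat.cast_zero, zero_mul]
    exact S3.ext' fun i j => by fin_cases i <;> fin_cases j <;> simp [u10]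
  | succ n ih =>
    rw [pow_succ, ih]
    apply S3.ext'
    intro i j
    change ((u10 (n * c)).1 * (u10 c).1) i j = (u10 ((n + 1 : ℕ) * c)).1 i j
    rw [u10_val, u10_val, u10_val]
    fin_cases i <;> fin_cases j <;> simp [Matrix.mul_apply, Fin.sum_univ_three]
    ring

/-- A root element of `β` (upper left) is a root element of `α` (lower right). -/
theorem root_of_root {α β : S3 F →* G} (hα : α.ker ≤ Subgroup.center (S3 F)) (h2 : (2 : F) ≠ 0) {p : ℕ}
    [Fact p.Prime] [CharP F p] (hK : (lo F).range.map α = (up F).range.map β)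
    (ht : ∀ x ∈ (up F).range.map β, α (dm F) * x * (α (dm F))⁻¹ = β (dp F) * x * (β (dp F))⁻¹)
    {x : S3 F} (hx : x ∈ (up F).range) (hinv : x * (dp F * x) = dp F) (hp : x ^ p = 1) :
    β x ∈ (r12 F).map α ∨ β x ∈ (r21 F).map α := by
  have h1 : β x ∈ (lo F).range.map α := hK ▸ Subgroup.mem_map_of_mem β hx
  obtain ⟨_, ⟨M, rfl⟩, hM⟩ := h1
  have h3 : α (dm F) * β x * (α (dm F))⁻¹ = (β x)⁻¹ := by
    rw [ht _ (Subgroup.mem_map_of_mem β hx), ← map_mul, ← map_inv, ← map_mul, ← map_inv]
    congr 1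
    rw [eq_inv_iff_mul_eq_one, ← mul_right_inj x]
    calc x * (dp F * x * (dp F)⁻¹ * x) = x * (dp F * x) * (dp F)⁻¹ * x := by group
      _ = x * 1 := by rw [hinv]; group
  have h4 : lo F M * (dm F * lo F M) = dm F := by
    have h5 : lo F M * dm F * lo F M * (dm F)⁻¹ = 1 := by
      have h6 : dm F * lo F M * (dm F)⁻¹ ∈ (lo F).range := by
        let M' : SpecialLinearGroup (Fin 2) F := ⟨!![M.1 0 0, -M.1 0 1; -M.1 1 0, M.1 1 1], by
          have := M.2; rw [Matrix.det_fin_two] at this; rw [Matrix.det_fin_two]; simpa using this⟩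
        refine ⟨M', ?_⟩
        rw [eq_mul_inv_iff_mul_eq]
        apply S3.ext'
        intro i j
        change ((loM M').1 * (dm F).1) i j = ((dm F).1 * (loM M).1) i j
        rw [dm_val]
        fin_cases i <;> fin_cases j <;> simp [M', loM, Matrix.mul_apply, Fin.sum_univ_three]
      have h7 : dm F * lo F M * (dm F)⁻¹ = (lo F M)⁻¹ := by
        refine inj_lo hα h6 (Subgroup.inv_mem _ ⟨M, rfl⟩) ?_
        rw [map_mul, map_mul, map_inv, map_inv, hM, h3]
      calc lo F M * dm F * lo F M * (dm F)⁻¹ = lo F M * (dm F * lo F M * (dm F)⁻¹) := by group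
        _ = 1 := by rw [h7, mul_inv_cancel]
    rw [mul_inv_eq_one] at h5
    rw [← mul_assoc, h5]
  have h5 : M ^ p = 1 := by
    have h6 : lo F (M ^ p) = 1 := by
      refine inj_lo hα ⟨_, rfl⟩ (Subgroup.one_mem _) ?_
      rw [map_pow, map_pow, hM, ← map_pow, hp, map_one, map_one]
    apply Subtype.ext
    ext i j
    have h7 : ∀ i j, (lo F (M ^ p)).1 i j = (1 : Matrix (Fin 3) (Fin 3) F) i j := fun i j =>
      congrFun (congrFun (congrArg Subtype.val h6) i) j
    rw [lo_val] at h7
    have h11 := h7 1 1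
    have h12 := h7 1 2
    have h21 := h7 2 1
    have h22 := h7 2 2
    simp at h11 h12 h21 h22
    fin_cases i <;> fin_cases j <;> simp [h11, h12, h21, h22]
  rw [← hM]
  rcases mem_of_inverted h2 h4 h5 with h6 | h6
  · exact Or.inl (Subgroup.mem_map_of_mem α h6)
  · exact Or.inr (Subgroup.mem_map_of_mem α h6)

/-- A subgroup contained in a union of two subgroups. -/
theorem le_or_le {P Q R : Subgroup G} (h : ∀ x ∈ P, x ∈ Q ∨ x ∈ R) : P ≤ Q ∨ P ≤ R := by
  by_contra hcon
  rw [not_or, SetLike.not_le_iff_exists, SetLike.not_le_iff_exists] at hcon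
  obtain ⟨⟨x, hx, hxQ⟩, y, hy, hyR⟩ := hcon
  have hxR : x ∈ R := (h x hx).resolve_left hxQ
  have hyQ : y ∈ Q := (h y hy).resolve_right hyR
  rcases h (x * y) (P.mul_mem hx hy) with h1 | h1
  · exact hxQ ((Subgroup.mul_mem_cancel_right Q hyQ).1 h1)
  · exact hyR ((Subgroup.mul_mem_cancel_left R hxR).1 h1)

theorem card_map_up [Finite F] {ψ : S3 F →* G} (hψ : ψ.ker ≤ Subgroup.center (S3 F)) {f : F → S3 F} {H : Subgroup (S3 F)}
    (hH : ∀ {y}, y ∈ H ↔ ∃ a, y = f a) (hf : Function.Injective f) (hle : H ≤ (up F).range ∨ H ≤ (lo F).range) :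
    Nat.card (H.map ψ) = Nat.card F := by
  refine (Nat.card_congr (Equiv.ofBijective (fun a : F => (⟨ψ (f a), Subgroup.mem_map_of_mem ψ (hH.2 ⟨a, rfl⟩)⟩ : H.map ψ))
    ⟨fun a b hab => ?_, ?_⟩)).symm
  · have h1 : ψ (f a) = ψ (f b) := congrArg Subtype.val hab
    rcases hle with hle | hle
    · exact hf (inj_up hψ (hle (hH.2 ⟨a, rfl⟩)) (hle (hH.2 ⟨b, rfl⟩)) h1)
    · exact hf (inj_lo hψ (hle (hH.2 ⟨a, rfl⟩)) (hle (hH.2 ⟨b, rfl⟩)) h1)
  · rintro ⟨_, x, hx, rfl⟩
    obtain ⟨a, rfl⟩ := hH.1 hx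
    exact ⟨a, rfl⟩

theorem u01_inj : Function.Injective (u01 : F → S3 F) := fun a b h => by
  have := congrFun (congrFun (congrArg Subtype.val h) 0) 1
  simpa [u01_val] using this
theorem u10_inj : Function.Injective (u10 : F → S3 F) := fun a b h => by
  have := congrFun (congrFun (congrArg Subtype.val h) 1) 0
  simpa [u10_val] using this
theorem u12_inj : Function.Injective (u12 : F → S3 F) := fun a b h => by
  have := congrFun (congrFun (congrArg Subtype.val h) 1) 2
  simpa [u12_val] using this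
theorem u21_inj : Function.Injective (u21 : F → S3 F) := fun a b h => by
  have := congrFun (congrFun (congrArg Subtype.val h) 2) 1
  simpa [u21_val] using this

/-- **Gluing.** -/
theorem glue [Finite F] {α β : S3 F →* G} (hα : α.ker ≤ Subgroup.center (S3 F)) (hβ : β.ker ≤ Subgroup.center (S3 F))
    (h2 : (2 : F) ≠ 0) (hK : (lo F).range.map α = (up F).range.map β)
    (ht : ∀ x ∈ (up F).range.map β, α (dm F) * x * (α (dm F))⁻¹ = β (dp F) * x * (β (dp F))⁻¹) :
    ((r12 F).map α = (r01 F).map β ∧ (r21 F).map α = (r10 F).map β) ∨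
    ((r12 F).map α = (r10 F).map β ∧ (r21 F).map α = (r01 F).map β) := by
  obtain ⟨p, hp⟩ := CharP.exists F
  have hpp : Fact p.Prime := ⟨CharP.char_is_prime F p⟩
  have e1 : (r01 F).map β ≤ (r12 F).map α ∨ (r01 F).map β ≤ (r21 F).map α := by
    refine le_or_le ?_
    rintro _ ⟨x, hx, rfl⟩
    obtain ⟨a, rfl⟩ := mem_r01.1 hx
    refine root_of_root hα h2 hK ht (r01_le hx) ?_ (p := p) ?_
    · apply S3.ext'
      intro i j
      change ((u01 a).1 * ((dp F).1 * (u01 a).1)) i j = _
      rw [u01_val, dp_val]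
      fin_cases i <;> fin_cases j <;> simp [Matrix.mul_apply, Fin.sum_univ_three]
    · rw [u01_pow, CharP.cast_eq_zero, zero_mul]
      exact S3.ext' fun i j => by fin_cases i <;> fin_cases j <;> simp [u01]
  have e2 : (r10 F).map β ≤ (r12 F).map α ∨ (r10 F).map β ≤ (r21 F).map α := by
    refine le_or_le ?_
    rintro _ ⟨x, hx, rfl⟩
    obtain ⟨a, rfl⟩ := mem_r10.1 hx
    refine root_of_root hα h2 hK ht (r10_le hx) ?_ (p := p) ?_
    · apply S3.ext'
      intro i j
      change ((u10 a).1 * ((dp F).1 * (u10 a).1)) i j = _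
      rw [u10_val, dp_val]
      fin_cases i <;> fin_cases j <;> simp [Matrix.mul_apply, Fin.sum_univ_three]
    · rw [u10_pow, CharP.cast_eq_zero, zero_mul]
      exact S3.ext' fun i j => by fin_cases i <;> fin_cases j <;> simp [u10]
  have c01 := card_map_up hβ (f := u01) mem_r01 u01_inj (Or.inl r01_le)
  have c10 := card_map_up hβ (f := u10) mem_r10 u10_inj (Or.inl r10_le)
  have c12 := card_map_up hα (f := u12) mem_r12 u12_inj (Or.inr r12_le)
  have c21 := card_map_up hα (f := u21) mem_r21 u21_inj (Or.inr r21_le)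
  have hfin : ∀ (H : Subgroup (S3 F)) (γ : S3 F →* G), Finite (H.map γ) := fun H γ => by
    have : Finite H := inferInstance
    exact Set.Finite.to_subtype (Set.Finite.image _ (Set.toFinite _))
  have eqc : ∀ {H H' : Subgroup (S3 F)} {γ γ' : S3 F →* G}, H.map γ ≤ H'.map γ' →
      Nat.card (H.map γ) = Nat.card F → Nat.card (H'.map γ') = Nat.card F → H'.map γ' = H.map γ := by
    intro H H' γ γ' hle h3 h4
    haveI := hfin H' γ'
    exact (Subgroup.eq_of_le_of_card_ge hle (by rw [h3, h4])).symm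
  -- the two root groups do not commute
  have hnc : (r01 F).map β ≠ (r10 F).map β := by
    intro h3
    have h4 : β (u01 1) ∈ (r10 F).map β := h3 ▸ Subgroup.mem_map_of_mem β (mem_r01.2 ⟨1, rfl⟩)
    obtain ⟨x, hx, hxy⟩ := h4
    obtain ⟨a, rfl⟩ := mem_r10.1 hx
    have h5 := inj_up hβ (r10_le hx) (r01_le (mem_r01.2 ⟨1, rfl⟩)) hxy
    have h6 := congrFun (congrFun (congrArg Subtype.val h5) 0) 1
    rw [u10_val, u01_val] at h6
    simp at h6
  rcases e1 with e1 | e1 <;> rcases e2 with e2 | e2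
  · exact absurd ((eqc e1 c01 c12).symm.trans (eqc e2 c10 c12)) hnc
  · exact Or.inl ⟨eqc e1 c01 c12, eqc e2 c10 c21⟩
  · exact Or.inr ⟨eqc e2 c10 c12, eqc e1 c01 c21⟩
  · exact absurd ((eqc e1 c01 c21).symm.trans (eqc e2 c10 c21)) hnc

/-- **Paths**: the input of the recognition theorem (`n` = size of the matrices, nodes `0, …, n - 2`). -/
structure Path (N : ℕ) (K : ℕ → Subgroup G) (ψ : ℕ → S3 F →* G) : Prop where
  ker : ∀ i, i + 2 < N → (ψ i).ker ≤ Subgroup.center (S3 F)
  K0 : ∀ i, i + 2 < N → (up F).range.map (ψ i) = K i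
  K1 : ∀ i, i + 2 < N → (lo F).range.map (ψ i) = K (i + 1)
  comm : ∀ i j, i + 2 ≤ j → j + 1 < N → ∀ x ∈ K i, ∀ y ∈ K j, x * y = y * x
  inv : ∀ i, i + 3 < N → ∀ x ∈ K (i + 1),
    ψ i (dm F) * x * (ψ i (dm F))⁻¹ = ψ (i + 1) (dp F) * x * (ψ (i + 1) (dp F))⁻¹

open Classical in
/-- orientation -/
noncomputable def orient (ψ : ℕ → S3 F →* G) : ℕ → S3 F →* G
  | 0 => ψ 0
  | i + 1 => if (r12 F).map (orient ψ i) = (r01 F).map (ψ (i + 1)) ∧ (r21 F).map (orient ψ i) = (r10 F).map (ψ (i + 1))
      then ψ (i + 1) else (ψ (i + 1)).comp (tau F)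

theorem orient_or (ψ : ℕ → S3 F →* G) (i : ℕ) : orient ψ i = ψ i ∨ orient ψ i = (ψ i).comp (tau F) := by
  classical
  cases i with
  | zero => exact Or.inl rfl
  | succ i =>
    rw [orient]
    split_ifs
    · exact Or.inl rfl
    · exact Or.inr rfl

namespace Path

variable {N : ℕ} {K : ℕ → Subgroup G} {ψ : ℕ → S3 F →* G} (h : Path N K ψ)

include h

theorem oriented [Finite F] (h2 : (2 : F) ≠ 0) (hN : 3 ≤ N) :
    ∃ A B, Oriented N K A B (orient ψ) := by
  classical
  have hker : ∀ i, i + 2 < N → (orient ψ i).ker ≤ Subgroup.center (S3 F) := by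
    intro i hi
    rcases orient_or ψ i with h1 | h1 <;> rw [h1]
    · exact h.ker i hi
    · exact ker_tau (h.ker i hi)
  have hK0 : ∀ i, i + 2 < N → (up F).range.map (orient ψ i) = K i := by
    intro i hi
    rcases orient_or ψ i with h1 | h1 <;> rw [h1]
    · exact h.K0 i hi
    · rw [← Subgroup.map_map, tau_up, h.K0 i hi]
  have hK1 : ∀ i, i + 2 < N → (lo F).range.map (orient ψ i) = K (i + 1) := by
    intro i hi
    rcases orient_or ψ i with h1 | h1 <;> rw [h1]
    · exact h.K1 i hi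
    · rw [← Subgroup.map_map, tau_lo, h.K1 i hi]
  have hm : ∀ i, orient ψ i (dm F) = ψ i (dm F) := by
    intro i
    rcases orient_or ψ i with h1 | h1 <;> rw [h1]
    rw [MonoidHom.comp_apply, tau_dm]
  -- the orientation
  have hor : ∀ i, i + 3 < N → (r12 F).map (orient ψ i) = (r01 F).map (orient ψ (i + 1)) ∧
      (r21 F).map (orient ψ i) = (r10 F).map (orient ψ (i + 1)) := by
    intro i hi
    have h3 := glue (α := orient ψ i) (β := ψ (i + 1)) (hker i (by omega)) (h.ker (i + 1) (by omega)) h2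
      (by rw [hK1 i (by omega), h.K0 (i + 1) (by omega)])
      (fun x hx => by rw [hm]; exact h.inv i hi x (by rwa [← h.K0 (i + 1) (by omega)]))
    rw [orient]
    split_ifs with h4
    · exact h4
    · obtain ⟨h5, h6⟩ := h3.resolve_left h4
      rw [map_tau_of mem_r01 mem_r10 tau_u01, map_tau_of mem_r10 mem_r01 tau_u10]
      exact ⟨h5, h6⟩
  refine ⟨fun i => if i + 2 < N then (r01 F).map (orient ψ i) else (r12 F).map (orient ψ (i - 1)),
    fun i => if i + 2 < N then (r10 F).map (orient ψ i) else (r21 F).map (orient ψ (i - 1)),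
    hker, ?_, ?_, ?_, ?_, hK0, hK1, h.comm⟩
  · intro i hi
    simp only [if_pos hi]
  · intro i hi
    by_cases h3 : i + 1 + 2 < N
    · simp only [if_pos h3]
      exact (hor i (by omega)).1
    · simp only [if_neg h3, Nat.add_sub_cancel]
  · intro i hi
    simp only [if_pos hi]
  · intro i hi
    by_cases h3 : i + 1 + 2 < N
    · simp only [if_pos h3]
      exact (hor i (by omega)).2
    · simp only [if_neg h3, Nat.add_sub_cancel]

end Path

theorem up_le : (up F).range ≤ r01 F ⊔ r10 F := by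
  rintro _ ⟨M, rfl⟩
  refine LieClassical.SLGen.transvection_induction (P := fun M => up F M ∈ r01 F ⊔ r10 F) ?_ ?_ M
  · intro i j hij c
    fin_cases i <;> fin_cases j
    · exact absurd rfl hij
    · refine Subgroup.mem_sup_left (mem_r01.2 ⟨c, S3.ext' fun k l => ?_⟩)
      rw [up_val, u01_val]
      fin_cases k <;> fin_cases l <;> simp [SpecialLinearGroup.transvection, Matrix.transvection, Matrix.single]
    · refine Subgroup.mem_sup_right (mem_r10.2 ⟨c, S3.ext' fun k l => ?_⟩)
      rw [up_val, u10_val]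
      fin_cases k <;> fin_cases l <;> simp [SpecialLinearGroup.transvection, Matrix.transvection, Matrix.single]
    · exact absurd rfl hij
  · intro A B hA hB
    simp only [map_mul]
    exact Subgroup.mul_mem _ hA hB

theorem lo_le : (lo F).range ≤ r12 F ⊔ r21 F := by
  rintro _ ⟨M, rfl⟩
  refine LieClassical.SLGen.transvection_induction (P := fun M => lo F M ∈ r12 F ⊔ r21 F) ?_ ?_ M
  · intro i j hij c
    fin_cases i <;> fin_cases j
    · exact absurd rfl hij
    · refine Subgroup.mem_sup_left (mem_r12.2 ⟨c, S3.ext' fun k l => ?_⟩)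
      rw [lo_val, u12_val]
      fin_cases k <;> fin_cases l <;> simp [SpecialLinearGroup.transvection, Matrix.transvection, Matrix.single]
    · refine Subgroup.mem_sup_right (mem_r21.2 ⟨c, S3.ext' fun k l => ?_⟩)
      rw [lo_val, u21_val]
      fin_cases k <;> fin_cases l <;> simp [SpecialLinearGroup.transvection, Matrix.transvection, Matrix.single]
    · exact absurd rfl hij
  · intro A B hA hB
    simp only [map_mul]
    exact Subgroup.mul_mem _ hA hB

namespace Oriented

variable {m : ℕ} {K A B : ℕ → Subgroup G} {ψ : ℕ → S3 F →* G} (h : Oriented (m + 1) K A B ψ)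

include h

/-- The graded family of an oriented path. -/
theorem exists_graded [Finite F] (hm : 3 ≤ m) : ∃ Y : Fin (m + 1) → Fin (m + 1) → Subgroup G, AGraded.Graded Y ∧
    (∀ i j, i ≠ j → Nat.card (Y i j) = Nat.card F) ∧
    (∀ i (hi : i < m), Y ⟨i, by omega⟩ ⟨i + 1, by omega⟩ = A i ∧ Y ⟨i + 1, by omega⟩ ⟨i, by omega⟩ = B i) ∧
    ∀ L : Subgroup G, (∀ i j, i ≠ j → Y i j ≤ L) ↔ ∀ i, i < m → K i ≤ L := by
  classical
  choose! n hn using fun i (hi : i + 1 < m + 1) => h.exists_n (by omega) hi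
  have hc := h.chain (by omega) hn
  have hf := h.first (by omega) hn
  have hg := hc.graded hm hf
  have hY : ∀ i (hi : i < m), Y A B n m ⟨i, by omega⟩ ⟨i + 1, by omega⟩ = A i ∧
      Y A B n m ⟨i + 1, by omega⟩ ⟨i, by omega⟩ = B i := by
    intro i hi
    constructor
    · show X A B n i (i + 1) = A i
      rw [X, if_pos (by omega), W_base]
    · show X A B n (i + 1) i = B i
      rw [X, if_neg (by omega), W_base]
  refine ⟨Y A B n m, hg, ?_, hY, ?_⟩
  · -- all root subgroups are conjugate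
    intro i j hij
    have hm1 : (0 : ℕ) < m := by omega
    let f0 : Fin (m + 1) := ⟨0, by omega⟩
    let f1 : Fin (m + 1) := ⟨1, by omega⟩
    have h01 : f0 ≠ f1 := by simp [f0, f1]
    have inj2 : ∀ a b : Fin (m + 1), a ≠ b → Function.Injective ![a, b] := by
      intro a b hab i j hij
      fin_cases i <;> fin_cases j <;> simp_all
    obtain ⟨σ, hσ⟩ := exists_perm_ext ![f0, f1] ![i, j] (inj2 _ _ h01) (inj2 _ _ hij)
    obtain ⟨g, hg⟩ := hc.exists_perm σ
    have s0 : σ f0 = i := hσ 0
    have s1 : σ f1 = j := hσ 1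
    have e1 := hg f0 f1 h01
    rw [s0, s1] at e1
    rw [← e1, show Y A B n m f0 f1 = A 0 from (hY 0 hm1).1, ← h.A0 0 (by omega)]
    have e2 := card_map_up (h.ker 0 (by omega)) (f := u01) mem_r01 u01_inj (Or.inl r01_le)
    rw [← e2]
    unfold cc
    exact (Nat.card_congr (Subgroup.equivSMul (MulAut.conj g) _).toEquiv).symm
  · intro L
    constructor
    · intro hL i hi
      have hAi : A i ≤ L := (hY i hi).1 ▸ hL _ _ (by simp)
      have hBi : B i ≤ L := (hY i hi).2 ▸ hL _ _ (by simp)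
      by_cases h1 : i + 2 < m + 1
      · rw [← h.K0 i h1]
        refine (Subgroup.map_mono up_le).trans ?_
        rw [Subgroup.map_sup, h.A0 i h1, h.B0 i h1]
        exact sup_le hAi hBi
      · obtain ⟨i, rfl⟩ : ∃ j, i = j + 1 := ⟨i - 1, by omega⟩
        rw [← h.K1 i (by omega)]
        refine (Subgroup.map_mono lo_le).trans ?_
        rw [Subgroup.map_sup, h.A1 i (by omega), h.B1 i (by omega)]
        exact sup_le hAi hBi
    · intro hL i j hij
      have hW : ∀ {D : ℕ → Subgroup G}, (∀ i, i < m → D i ≤ L) → ∀ i j, i < j → j < m + 1 → W D n i j ≤ L := by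
        intro D hD i j hij
        induction j, hij using Nat.le_induction with
        | base =>
          intro hj
          rw [W_base]
          exact hD i (by omega)
        | succ j hij ih =>
          intro hj
          rw [W_succ D n hij]
          exact cc_le (hL j (by omega) (hn j (by omega)).1) (ih (by omega))
      show X A B n i j ≤ L
      unfold X
      split_ifs with h1
      · exact hW (fun i hi => (hc.hA.D_le i (by omega)).trans (hL i hi)) i j h1 j.2
      · exact hW (fun i hi => (hc.hB.D_le i (by omega)).trans (hL i hi)) j i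
          (lt_of_le_of_ne (not_lt.1 h1) fun h2 => hij (Fin.ext h2.symm)) i.2

/-- **Curtis–Tits, type `A`** (oriented form, any characteristic). -/
theorem nonempty_psl [Fintype F] [Finite G] [IsSimpleGroup G] (hm : 3 ≤ m)
    (hgen : ∀ L : Subgroup G, (∀ i, i < m → K i ≤ L) → L = ⊤) :
    Nonempty (G ≃* Matrix.ProjectiveSpecialLinearGroup (Fin (m + 1)) F) := by
  obtain ⟨Y, hY, hcard, -, hL⟩ := h.exists_graded hm
  obtain ⟨F', _, _, hcF, -, ⟨e⟩⟩ := hY.exists_psl (by simp; omega) fun L hL' => hgen L ((hL L).1 hL')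
  have h1 : Fintype.card F' = Fintype.card F := by
    rw [hcF ⟨0, by omega⟩ ⟨1, by omega⟩ (by simp), hcard _ _ (by simp), Nat.card_eq_fintype_card]
  exact ⟨e.trans (SporadicA.FieldFour.pslCongr (FiniteField.ringEquivOfCardEq h1))⟩

end Oriented

/-- **Curtis–Tits, type `A`**, odd characteristic: a finite simple group generated by a path of `SL(2, F)`'s. -/
theorem Path.nonempty_psl [Fintype F] [Finite G] [IsSimpleGroup G] (h2 : (2 : F) ≠ 0) {m : ℕ} (hm : 3 ≤ m)
    {K : ℕ → Subgroup G} {ψ : ℕ → S3 F →* G} (h : Path (m + 1) K ψ)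
    (hgen : ∀ L : Subgroup G, (∀ i, i < m → K i ≤ L) → L = ⊤) :
    Nonempty (G ≃* Matrix.ProjectiveSpecialLinearGroup (Fin (m + 1)) F) := by
  obtain ⟨A, B, hor⟩ := h.oriented h2 (by omega)
  exact hor.nonempty_psl hm hgen

end Cfsg.Agent.FramePlus
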