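import Mathlib
import Cfsg.Agent.AGraded.Coord

/-!
# Chains of rank one groups of type `A`: the root subgroups

`Half`: a chain of commuting/braiding groups `K 0, …, K (N-2)` of a group `G` with subgroups `D i ≤ K i` (root groups),
tori `T i` and Weyl elements `n i`.  The subgroups `W D n i j` (`i < j < N`) are permuted by the `n k` as the symmetric
group permutes the pairs `(i, j)`.
-/

set_option autoImplicit false

namespace Cfsg.Agent.FramePlus

open scoped Pointwise

universe u

variable {G : Type u} [Group G]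

/-- Conjugate of a subgroup. -/
def cc (g : G) (K : Subgroup G) : Subgroup G := MulAut.conj g • K

theorem cc_mul (g h : G) (K : Subgroup G) : cc (g * h) K = cc g (cc h K) := by
  unfold cc
  rw [map_mul, mul_smul]

theorem cc_one (K : Subgroup G) : cc 1 K = K := by
  unfold cc
  rw [map_one, one_smul]

theorem mem_cc {g x : G} {K : Subgroup G} : x ∈ cc g K ↔ g⁻¹ * x * g ∈ K := by
  unfold cc
  rw [Subgroup.mem_pointwise_smul_iff_inv_smul_mem, ← map_inv, MulAut.smul_def, MulAut.conj_apply, inv_inv]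

theorem conj_mem_cc {g x : G} {K : Subgroup G} (hx : x ∈ K) : g * x * g⁻¹ ∈ cc g K := by
  rw [mem_cc]
  simpa [mul_assoc] using hx

theorem exists_of_mem_cc {g x : G} {K : Subgroup G} (hx : x ∈ cc g K) : ∃ y ∈ K, g * y * g⁻¹ = x :=
  ⟨g⁻¹ * x * g, mem_cc.1 hx, by group⟩

theorem cc_comm {g : G} {K : Subgroup G} (h : ∀ x ∈ K, g * x = x * g) : cc g K = K := by
  ext x
  rw [mem_cc]
  constructor
  · intro hx
    have h1 := h _ hx
    have h2 : x = g⁻¹ * x * g := by
      calc x = g * (g⁻¹ * x * g) * g⁻¹ := by group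
        _ = g⁻¹ * x * g * g * g⁻¹ := by rw [h1]
        _ = _ := by group
    rwa [h2]
  · intro hx
    have h1 := h _ hx
    have h2 : g⁻¹ * x * g = x := by
      rw [mul_assoc, ← h1]
      group
    rwa [h2]

theorem cc_le {g : G} {K L : Subgroup G} (hg : g ∈ L) (hK : K ≤ L) : cc g K ≤ L := by
  intro x hx
  obtain ⟨y, hy, rfl⟩ := exists_of_mem_cc hx
  exact L.mul_mem (L.mul_mem hg (hK hy)) (L.inv_mem hg)

theorem cc_swap {g h : G} (hgh : g * h = h * g) (K : Subgroup G) : cc g (cc h K) = cc h (cc g K) := by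
  rw [← cc_mul, hgh, cc_mul]

/-- Half of a chain of type `A`: see the module docstring. -/
structure Half (N : ℕ) (K D T : ℕ → Subgroup G) (n : ℕ → G) : Prop where
  comm : ∀ i j, i + 2 ≤ j → j + 1 < N → ∀ x ∈ K i, ∀ y ∈ K j, x * y = y * x
  D_le : ∀ i, i + 1 < N → D i ≤ K i
  n_mem : ∀ i, i + 1 < N → n i ∈ K i
  T_le : ∀ i, i + 1 < N → T i ≤ K i
  n_sq : ∀ i, i + 1 < N → n i * n i ∈ T i
  tD : ∀ i, i + 2 < N → ∀ t ∈ T i, cc t (D (i + 1)) = D (i + 1)
  tD' : ∀ i, i + 2 < N → ∀ t ∈ T (i + 1), cc t (D i) = D i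
  nD : ∀ i, i + 2 < N → cc (n i) (D (i + 1)) = cc (n (i + 1)) (D i)
  braid : ∀ i, i + 2 < N → ∃ s ∈ T i, ∃ t ∈ T (i + 1), n (i + 1) * n i * n (i + 1) = n i * n (i + 1) * n i * (s * t)

/-- The root subgroup `X i j`, `i < j`. -/
def W (D : ℕ → Subgroup G) (n : ℕ → G) (i : ℕ) : ℕ → Subgroup G
  | 0 => D i
  | j + 1 => if i < j then cc (n j) (W D n i j) else D i

theorem W_base (D : ℕ → Subgroup G) (n : ℕ → G) (i : ℕ) : W D n i (i + 1) = D i := by
  simp [W]

theorem W_succ (D : ℕ → Subgroup G) (n : ℕ → G) {i j : ℕ} (hij : i < j) : W D n i (j + 1) = cc (n j) (W D n i j) := by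
  simp [W, hij]

namespace Half

variable {N : ℕ} {K D T : ℕ → Subgroup G} {n : ℕ → G} (h : Half N K D T n)

include h

theorem nn {i j : ℕ} (hij : i + 2 ≤ j) (hj : j + 1 < N) : n i * n j = n j * n i :=
  h.comm i j hij hj _ (h.n_mem i (by omega)) _ (h.n_mem j hj)

theorem fix_right {g : G} {j : ℕ} (hg : ∀ i, i + 1 < N → j ≤ i → ∀ y ∈ K i, g * y = y * g) {i : ℕ} (hi : j ≤ i) :
    ∀ l, i < l → l < N → cc g (W D n i l) = W D n i l := by
  intro l hl
  induction l, hl using Nat.le_induction with
  | base =>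
    intro hN
    rw [W_base]
    exact cc_comm fun x hx => hg i (by omega) hi x (h.D_le i (by omega) hx)
  | succ l hl ih =>
    intro hN
    rw [W_succ D n (show i < l by omega), cc_swap (hg l (by omega) (by omega) _ (h.n_mem l (by omega))), ih (by omega)]

theorem fix_left {g : G} {j : ℕ} (hg : ∀ i, i + 1 < N → i < j → ∀ y ∈ K i, g * y = y * g) {i : ℕ} :
    ∀ l, i < l → l ≤ j → l < N → cc g (W D n i l) = W D n i l := by
  intro l hl
  induction l, hl using Nat.le_induction with
  | base =>
    intro hj hN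
    rw [W_base]
    exact cc_comm fun x hx => hg i (by omega) (by omega) x (h.D_le i (by omega) hx)
  | succ l hl ih =>
    intro hj hN
    rw [W_succ D n (show i < l by omega), cc_swap (hg l (by omega) (by omega) _ (h.n_mem l (by omega))),
      ih (by omega) (by omega)]

/-- (d) -/
theorem left {i : ℕ} : ∀ j, i + 1 < j → j < N → cc (n i) (W D n (i + 1) j) = W D n i j := by
  intro j hj
  induction j, hj using Nat.le_induction with
  | base =>
    intro hN
    rw [W_base, W_succ D n (show i < i + 1 by omega), W_base]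
    exact h.nD i hN
  | succ j hj ih =>
    intro hN
    rw [W_succ D n (show i + 1 < j by omega), W_succ D n (show i < j by omega),
      cc_swap (h.nn (by omega) (by omega)), ih (by omega)]

/-- `T i` normalises `X (i+1) j`. -/
theorem torus_right {i : ℕ} {t : G} (ht : t ∈ T i) : ∀ j, i + 1 < j → j < N → cc t (W D n (i + 1) j) = W D n (i + 1) j := by
  intro j hj
  induction j, hj using Nat.le_induction with
  | base =>
    intro hN
    rw [W_base]
    exact h.tD i hN t ht
  | succ j hj ih =>
    intro hN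
    rw [W_succ D n (show i + 1 < j by omega),
      cc_swap (h.comm i j (by omega) (by omega) t (h.T_le i (by omega) ht) _ (h.n_mem j (by omega))), ih (by omega)]

/-- `T k` normalises `X i k`. -/
theorem torus_left {k : ℕ} {t : G} (ht : t ∈ T k) (hk : k + 1 < N) : ∀ d i, i + 1 + d = k → cc t (W D n i k) = W D n i k := by
  intro d
  induction d with
  | zero =>
    intro i hi
    obtain rfl : i + 1 = k := by omega
    rw [W_base]
    exact h.tD' i (by omega) t ht
  | succ d ih =>
    intro i hi
    have h1 := h.comm i k (by omega) hk _ (h.n_mem i (by omega)) t (h.T_le k hk ht)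
    rw [← h.left k (by omega) (by omega), cc_swap h1.symm, ih (i + 1) (by omega)]

/-- (c) -/
theorem left' {i j : ℕ} (hij : i + 1 < j) (hj : j < N) : cc (n i) (W D n i j) = W D n (i + 1) j := by
  rw [← h.left j hij hj, ← cc_mul]
  exact h.torus_right (h.n_sq i (by omega)) j hij hj

/-- (b) -/
theorem right' {i k : ℕ} (hik : i < k) (hk : k + 1 < N) : cc (n k) (W D n i (k + 1)) = W D n i k := by
  rw [W_succ D n hik, ← cc_mul]
  exact h.torus_left (h.n_sq k hk) hk (k - i - 1) i (by omega)

/-- (e), first step -/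
theorem mid₀ {k : ℕ} (hk : k + 3 < N) : cc (n (k + 1)) (W D n k (k + 3)) = W D n k (k + 3) := by
  -- `W k (k+3) = n_k n_{k+1} D (k+2)`
  have h1 : W D n k (k + 3) = cc (n k * n (k + 1)) (D (k + 2)) := by
    rw [cc_mul, ← h.left (k + 3) (by omega) hk, ← h.left (k + 3) (by omega) hk, W_base]
  have h2 : cc (n k) (D (k + 2)) = D (k + 2) := cc_comm fun x hx =>
    h.comm k (k + 2) le_rfl (by omega) _ (h.n_mem k (by omega)) x (h.D_le (k + 2) (by omega) hx)
  obtain ⟨s, hs, t, ht, hst⟩ := h.braid k (by omega)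
  have h3 : cc (s * t) (D (k + 2)) = D (k + 2) := by
    rw [cc_mul, h.tD (k + 1) (by omega) t ht]
    exact cc_comm fun x hx => h.comm k (k + 2) le_rfl (by omega) _ (h.T_le k (by omega) hs) x (h.D_le (k + 2) (by omega) hx)
  calc cc (n (k + 1)) (W D n k (k + 3)) = cc (n (k + 1) * n k * n (k + 1)) (D (k + 2)) := by
        rw [h1, ← cc_mul, ← mul_assoc]
    _ = cc (n k * n (k + 1)) (cc (n k) (cc (s * t) (D (k + 2)))) := by rw [hst, cc_mul, cc_mul (n k * n (k + 1)) (n k)]
    _ = _ := by rw [h3, h2, h1]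

/-- (e) -/
theorem mid {k : ℕ} : ∀ d i, i + d = k → ∀ j, k + 2 < j → j < N → cc (n (k + 1)) (W D n i j) = W D n i j := by
  intro d
  induction d with
  | zero =>
    intro i hi j hj
    obtain rfl : i = k := by omega
    induction j, hj using Nat.le_induction with
    | base => exact fun hN => h.mid₀ hN
    | succ j hj ih =>
      intro hN
      rw [W_succ D n (show i < j by omega), cc_swap (h.nn (by omega) (by omega)), ih (by omega)]
  | succ d ih =>
    intro i hi j hj hN
    rw [← h.left j (by omega) hN, cc_swap (h.nn (by omega) (by omega)).symm, ih (i + 1) (by omega) j hj hN]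

/-- (f1) -/
theorem far_right {k i j : ℕ} (hk : k + 1 < i) (hij : i < j) (hj : j < N) : cc (n k) (W D n i j) = W D n i j :=
  h.fix_right (j := k + 2) (fun l hl hkl y hy => h.comm k l hkl hl _ (h.n_mem k (by omega)) y hy) (by omega) j hij hj

/-- (f2) -/
theorem far_left {k i j : ℕ} (hij : i < j) (hj : j < k) (hk : k + 1 < N) : cc (n k) (W D n i j) = W D n i j :=
  h.fix_left (j := k - 1) (fun l hl hkl y hy => (h.comm l k (by omega) hk y hy _ (h.n_mem k hk)).symm) j hij
    (by omega) (by omega)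

end Half

end Cfsg.Agent.FramePlus
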