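import Cfsg.Agent.FramePlus.SLThree

/-!
# Oriented paths of `SL(3, F)`'s: the chain and the graded family
-/

set_option autoImplicit false

namespace Cfsg.Agent.FramePlus

open scoped Pointwise commutatorElement MatrixGroups
open Matrix

universe u v

variable {G : Type u} [Group G] {F : Type v} [Field F]

theorem dg_val (a b : F) (ha : a ≠ 0) (hb : b ≠ 0) : (dg a b ha hb).1 = !![a, 0, 0; 0, b, 0; 0, 0, (a * b)⁻¹] := rfl
theorem w0_val (a : F) (ha : a ≠ 0) : (w0 a ha).1 = !![0, a, 0; -a⁻¹, 0, 0; 0, 0, 1] := rfl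
theorem w1_val (a : F) (ha : a ≠ 0) : (w1 a ha).1 = !![1, 0, 0; 0, 0, a; 0, -a⁻¹, 0] := rfl

/-- `1 + F e_02` -/
def r02 (F : Type v) [Field F] : Subgroup (S3 F) where
  carrier := {x | ∃ a, x = u02 a}
  one_mem' := ⟨0, by apply S3.ext'; intro i j; fin_cases i <;> fin_cases j <;> simp [u02]⟩
  mul_mem' := by
    rintro _ _ ⟨a, rfl⟩ ⟨b, rfl⟩
    refine ⟨a + b, S3.ext' fun i j => ?_⟩
    change ((u02 a).1 * (u02 b).1) i j = (u02 (a + b)).1 i j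
    fin_cases i <;> fin_cases j <;> simp [u02, Matrix.mul_apply, Fin.sum_univ_three, add_comm]
  inv_mem' := by
    rintro _ ⟨a, rfl⟩
    refine ⟨-a, inv_eq_of_mul_eq_one_right (S3.ext' fun i j => ?_)⟩
    change ((u02 a).1 * (u02 (-a)).1) i j = (1 : Matrix (Fin 3) (Fin 3) F) i j
    fin_cases i <;> fin_cases j <;> simp [u02, Matrix.mul_apply, Fin.sum_univ_three]

/-- `1 + F e_20` -/
def r20 (F : Type v) [Field F] : Subgroup (S3 F) where
  carrier := {x | ∃ a, x = u20 a}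
  one_mem' := ⟨0, by apply S3.ext'; intro i j; fin_cases i <;> fin_cases j <;> simp [u20]⟩
  mul_mem' := by
    rintro _ _ ⟨a, rfl⟩ ⟨b, rfl⟩
    refine ⟨a + b, S3.ext' fun i j => ?_⟩
    change ((u20 a).1 * (u20 b).1) i j = (u20 (a + b)).1 i j
    fin_cases i <;> fin_cases j <;> simp [u20, Matrix.mul_apply, Fin.sum_univ_three]
  inv_mem' := by
    rintro _ ⟨a, rfl⟩
    refine ⟨-a, inv_eq_of_mul_eq_one_right (S3.ext' fun i j => ?_)⟩
    change ((u20 a).1 * (u20 (-a)).1) i j = (1 : Matrix (Fin 3) (Fin 3) F) i j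
    fin_cases i <;> fin_cases j <;> simp [u20, Matrix.mul_apply, Fin.sum_univ_three]

theorem mem_r02 {x : S3 F} : x ∈ r02 F ↔ ∃ a, x = u02 a := Iff.rfl
theorem mem_r20 {x : S3 F} : x ∈ r20 F ↔ ∃ a, x = u20 a := Iff.rfl

theorem cc_root {x : S3 F} {f g : F → S3 F} {H H' : Subgroup (S3 F)} (hH : ∀ {y}, y ∈ H ↔ ∃ a, y = f a)
    (hH' : ∀ {y}, y ∈ H' ↔ ∃ a, y = g a) (c : F) (hc : c ≠ 0) (h : ∀ a, x * f a = g (c * a) * x) (ψ : S3 F →* G) :
    cc (ψ x) (H.map ψ) = H'.map ψ := by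
  ext y
  rw [mem_cc]
  constructor
  · rintro ⟨z, hz, hzy⟩
    obtain ⟨a, rfl⟩ := hH.1 hz
    refine ⟨g (c * a), hH'.2 ⟨_, rfl⟩, ?_⟩
    have h1 : ψ x * ψ (f a) = ψ (g (c * a)) * ψ x := by rw [← map_mul, h, map_mul]
    calc ψ (g (c * a)) = ψ (g (c * a)) * ψ x * (ψ x)⁻¹ := by group
      _ = ψ x * ψ (f a) * (ψ x)⁻¹ := by rw [h1]
      _ = _ := by rw [hzy]; group
  · rintro ⟨z, hz, rfl⟩
    obtain ⟨b, rfl⟩ := hH'.1 hz
    refine ⟨f (c⁻¹ * b), hH.2 ⟨_, rfl⟩, ?_⟩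
    have h2 : c * (c⁻¹ * b) = b := by field_simp
    have h1 : ψ x * ψ (f (c⁻¹ * b)) = ψ (g b) * ψ x := by rw [← map_mul, h, h2, map_mul]
    calc ψ (f (c⁻¹ * b)) = (ψ x)⁻¹ * (ψ x * ψ (f (c⁻¹ * b))) := by group
      _ = _ := by rw [h1]; group

section

variable (ψ : S3 F →* G)

theorem dg01 (a b : F) (ha : a ≠ 0) (hb : b ≠ 0) : cc (ψ (dg a b ha hb)) ((r01 F).map ψ) = (r01 F).map ψ :=
  cc_root mem_r01 mem_r01 (a * b⁻¹) (mul_ne_zero ha (inv_ne_zero hb)) (fun c => of_entry fun i j => by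
    rw [u01_val, u01_val, dg_val]
    fin_cases i <;> fin_cases j <;> simp [Matrix.mul_apply, Fin.sum_univ_three]
    field_simp) ψ

theorem dg10 (a b : F) (ha : a ≠ 0) (hb : b ≠ 0) : cc (ψ (dg a b ha hb)) ((r10 F).map ψ) = (r10 F).map ψ :=
  cc_root mem_r10 mem_r10 (b * a⁻¹) (mul_ne_zero hb (inv_ne_zero ha)) (fun c => of_entry fun i j => by
    rw [u10_val, u10_val, dg_val]
    fin_cases i <;> fin_cases j <;> simp [Matrix.mul_apply, Fin.sum_univ_three]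
    field_simp) ψ

theorem dg12 (a b : F) (ha : a ≠ 0) (hb : b ≠ 0) : cc (ψ (dg a b ha hb)) ((r12 F).map ψ) = (r12 F).map ψ :=
  cc_root mem_r12 mem_r12 (b * (a * b)) (mul_ne_zero hb (mul_ne_zero ha hb)) (fun c => of_entry fun i j => by
    rw [u12_val, u12_val, dg_val]
    fin_cases i <;> fin_cases j <;> simp [Matrix.mul_apply, Fin.sum_univ_three]
    field_simp) ψ

theorem dg21 (a b : F) (ha : a ≠ 0) (hb : b ≠ 0) : cc (ψ (dg a b ha hb)) ((r21 F).map ψ) = (r21 F).map ψ :=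
  cc_root mem_r21 mem_r21 ((a * b)⁻¹ * b⁻¹) (mul_ne_zero (inv_ne_zero (mul_ne_zero ha hb)) (inv_ne_zero hb))
    (fun c => of_entry fun i j => by
      rw [u21_val, u21_val, dg_val]
      fin_cases i <;> fin_cases j <;> simp [Matrix.mul_apply, Fin.sum_univ_three]
      field_simp) ψ

theorem w0_12 (a : F) (ha : a ≠ 0) : cc (ψ (w0 a ha)) ((r12 F).map ψ) = (r02 F).map ψ :=
  cc_root mem_r12 mem_r02 a ha (fun c => of_entry fun i j => by
    rw [u12_val, u02_val, w0_val]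
    fin_cases i <;> fin_cases j <;> simp [Matrix.mul_apply, Fin.sum_univ_three]) ψ

theorem w1_01 (a : F) (ha : a ≠ 0) : cc (ψ (w1 a ha)) ((r01 F).map ψ) = (r02 F).map ψ :=
  cc_root mem_r01 mem_r02 (-a) (neg_ne_zero.2 ha) (fun c => of_entry fun i j => by
    rw [u01_val, u02_val, w1_val]
    fin_cases i <;> fin_cases j <;> simp [Matrix.mul_apply, Fin.sum_univ_three]
    field_simp) ψ

theorem w0_21 (a : F) (ha : a ≠ 0) : cc (ψ (w0 a ha)) ((r21 F).map ψ) = (r20 F).map ψ :=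
  cc_root mem_r21 mem_r20 a⁻¹ (inv_ne_zero ha) (fun c => of_entry fun i j => by
    rw [u21_val, u20_val, w0_val]
    fin_cases i <;> fin_cases j <;> simp [Matrix.mul_apply, Fin.sum_univ_three]
    field_simp) ψ

theorem w1_10 (a : F) (ha : a ≠ 0) : cc (ψ (w1 a ha)) ((r10 F).map ψ) = (r20 F).map ψ :=
  cc_root mem_r10 mem_r20 (-a⁻¹) (neg_ne_zero.2 (inv_ne_zero ha)) (fun c => of_entry fun i j => by
    rw [u10_val, u20_val, w1_val]
    fin_cases i <;> fin_cases j <;> simp [Matrix.mul_apply, Fin.sum_univ_three]) ψ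

theorem w0_01 (a : F) (ha : a ≠ 0) : cc (ψ (w0 a ha)) ((r01 F).map ψ) = (r10 F).map ψ :=
  cc_root mem_r01 mem_r10 (-(a⁻¹ * a⁻¹)) (neg_ne_zero.2 (mul_ne_zero (inv_ne_zero ha) (inv_ne_zero ha)))
    (fun c => of_entry fun i j => by
      rw [u01_val, u10_val, w0_val]
      fin_cases i <;> fin_cases j <;> simp [Matrix.mul_apply, Fin.sum_univ_three]
      field_simp) ψ

theorem w0_10 (a : F) (ha : a ≠ 0) : cc (ψ (w0 a ha)) ((r10 F).map ψ) = (r01 F).map ψ :=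
  cc_root mem_r10 mem_r01 (-(a * a)) (neg_ne_zero.2 (mul_ne_zero ha ha))
    (fun c => of_entry fun i j => by
      rw [u10_val, u01_val, w0_val]
      fin_cases i <;> fin_cases j <;> simp [Matrix.mul_apply, Fin.sum_univ_three]
      field_simp) ψ

theorem w1_12 (a : F) (ha : a ≠ 0) : cc (ψ (w1 a ha)) ((r12 F).map ψ) = (r21 F).map ψ :=
  cc_root mem_r12 mem_r21 (-(a⁻¹ * a⁻¹)) (neg_ne_zero.2 (mul_ne_zero (inv_ne_zero ha) (inv_ne_zero ha)))
    (fun c => of_entry fun i j => by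
      rw [u12_val, u21_val, w1_val]
      fin_cases i <;> fin_cases j <;> simp [Matrix.mul_apply, Fin.sum_univ_three]
      field_simp) ψ

theorem w1_21 (a : F) (ha : a ≠ 0) : cc (ψ (w1 a ha)) ((r21 F).map ψ) = (r12 F).map ψ :=
  cc_root mem_r21 mem_r12 (-(a * a)) (neg_ne_zero.2 (mul_ne_zero ha ha))
    (fun c => of_entry fun i j => by
      rw [u21_val, u12_val, w1_val]
      fin_cases i <;> fin_cases j <;> simp [Matrix.mul_apply, Fin.sum_univ_three]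
      field_simp) ψ

end

/-- The Weyl element of `SL(2, F)`. -/
def wM (a : F) (ha : a ≠ 0) : SpecialLinearGroup (Fin 2) F := ⟨!![0, a; -a⁻¹, 0], by rw [Matrix.det_fin_two]; simp [ha]⟩

theorem w0_mem (a : F) (ha : a ≠ 0) : w0 a ha ∈ (up F).range := by
  refine ⟨wM a ha, S3.ext' fun i j => ?_⟩
  change (upM (wM a ha)).1 i j = _
  fin_cases i <;> fin_cases j <;> simp [upM, wM, w0]

theorem w1_mem (a : F) (ha : a ≠ 0) : w1 a ha ∈ (lo F).range := by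
  refine ⟨wM a ha, S3.ext' fun i j => ?_⟩
  change (loM (wM a ha)).1 i j = _
  fin_cases i <;> fin_cases j <;> simp [loM, wM, w1]

theorem braid₀ (a b : F) (ha : a ≠ 0) (hb : b ≠ 0) :
    w1 b hb * w0 a ha * w1 b hb = w0 a ha * w1 b hb * w0 a ha := by
  apply S3.ext'
  intro i j
  change ((w1 b hb).1 * (w0 a ha).1 * (w1 b hb).1) i j = ((w0 a ha).1 * (w1 b hb).1 * (w0 a ha).1) i j
  rw [w0_val, w1_val]
  fin_cases i <;> fin_cases j <;> simp [Matrix.mul_apply, Fin.sum_univ_three]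
  all_goals field_simp

/-- Oriented paths. -/
structure Oriented (N : ℕ) (K A B : ℕ → Subgroup G) (ψ : ℕ → S3 F →* G) : Prop where
  ker : ∀ i, i + 2 < N → (ψ i).ker ≤ Subgroup.center (S3 F)
  A0 : ∀ i, i + 2 < N → (r01 F).map (ψ i) = A i
  A1 : ∀ i, i + 2 < N → (r12 F).map (ψ i) = A (i + 1)
  B0 : ∀ i, i + 2 < N → (r10 F).map (ψ i) = B i
  B1 : ∀ i, i + 2 < N → (r21 F).map (ψ i) = B (i + 1)
  K0 : ∀ i, i + 2 < N → (up F).range.map (ψ i) = K i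
  K1 : ∀ i, i + 2 < N → (lo F).range.map (ψ i) = K (i + 1)
  comm : ∀ i j, i + 2 ≤ j → j + 1 < N → ∀ x ∈ K i, ∀ y ∈ K j, x * y = y * x

/-- The torus of a node. -/
def tor (K A B : Subgroup G) : Subgroup G where
  carrier := {t | t ∈ K ∧ cc t A = A ∧ cc t B = B}
  one_mem' := ⟨K.one_mem, cc_one A, cc_one B⟩
  mul_mem' := by
    rintro s t ⟨h1, h2, h3⟩ ⟨h4, h5, h6⟩
    exact ⟨K.mul_mem h1 h4, by rw [cc_mul, h5, h2], by rw [cc_mul, h6, h3]⟩
  inv_mem' := by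
    rintro s ⟨h1, h2, h3⟩
    refine ⟨K.inv_mem h1, ?_, ?_⟩
    · conv_lhs => rw [← h2]
      rw [← cc_mul, inv_mul_cancel, cc_one]
    · conv_lhs => rw [← h3]
      rw [← cc_mul, inv_mul_cancel, cc_one]

namespace Oriented

variable {N : ℕ} {K A B : ℕ → Subgroup G} {ψ : ℕ → S3 F →* G} (h : Oriented N K A B ψ)

include h

/-- Weyl elements exist. -/
theorem exists_n {i : ℕ} (hN : 3 ≤ N) (hi : i + 1 < N) : ∃ n : G, n ∈ K i ∧ cc n (A i) = B i ∧ cc n (B i) = A i := by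
  by_cases h1 : i + 2 < N
  · refine ⟨ψ i (w0 1 one_ne_zero), ?_, ?_, ?_⟩
    · rw [← h.K0 i h1]
      exact Subgroup.mem_map_of_mem _ (w0_mem _ _)
    · rw [← h.A0 i h1, ← h.B0 i h1, w0_01]
    · rw [← h.A0 i h1, ← h.B0 i h1, w0_10]
  · obtain ⟨i, rfl⟩ : ∃ j, i = j + 1 := ⟨i - 1, by omega⟩
    have h2 : i + 2 < N := hi
    refine ⟨ψ i (w1 1 one_ne_zero), ?_, ?_, ?_⟩
    · rw [← h.K1 i h2]
      exact Subgroup.mem_map_of_mem _ (w1_mem _ _)
    · rw [← h.A1 i h2, ← h.B1 i h2, w1_12]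
    · rw [← h.A1 i h2, ← h.B1 i h2, w1_21]

/-- The chain. -/
theorem chain {n : ℕ → G} (hN : 3 ≤ N) (hn : ∀ i, i + 1 < N → n i ∈ K i ∧ cc (n i) (A i) = B i ∧ cc (n i) (B i) = A i) :
    Chain N K A B (fun i => tor (K i) (A i) (B i)) n := by
  have hA : ∀ i, i + 1 < N → A i ≤ K i := by
    intro i hi
    by_cases h1 : i + 2 < N
    · rw [← h.A0 i h1, ← h.K0 i h1]
      exact Subgroup.map_mono r01_le
    · obtain ⟨i, rfl⟩ : ∃ j, i = j + 1 := ⟨i - 1, by omega⟩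
      rw [← h.A1 i hi, ← h.K1 i hi]
      exact Subgroup.map_mono r12_le
  have hB : ∀ i, i + 1 < N → B i ≤ K i := by
    intro i hi
    by_cases h1 : i + 2 < N
    · rw [← h.B0 i h1, ← h.K0 i h1]
      exact Subgroup.map_mono r10_le
    · obtain ⟨i, rfl⟩ : ∃ j, i = j + 1 := ⟨i - 1, by omega⟩
      rw [← h.B1 i hi, ← h.K1 i hi]
      exact Subgroup.map_mono r21_le
  have hsq : ∀ i, i + 1 < N → n i * n i ∈ tor (K i) (A i) (B i) := by
    intro i hi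
    obtain ⟨h1, h2, h3⟩ := hn i hi
    exact ⟨(K i).mul_mem h1 h1, by rw [cc_mul, h2, h3], by rw [cc_mul, h3, h2]⟩
  have t0 : ∀ i, i + 2 < N → ∀ t ∈ tor (K i) (A i) (B i), ∃ a b, ∃ (ha : a ≠ 0) (hb : b ≠ 0), t = ψ i (dg a b ha hb) := by
    rintro i hi t ⟨h1, h2, h3⟩
    rw [← h.K0 i hi] at h1
    rw [← h.A0 i hi] at h2
    rw [← h.B0 i hi] at h3
    obtain ⟨a, b, ha, hb, -, ht⟩ := tor_up (h.ker i hi) h1 h2 h3
    exact ⟨a, b, ha, hb, ht⟩
  have t1 : ∀ i, i + 2 < N → ∀ t ∈ tor (K (i + 1)) (A (i + 1)) (B (i + 1)),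
      ∃ a b, ∃ (ha : a ≠ 0) (hb : b ≠ 0), t = ψ i (dg a b ha hb) := by
    rintro i hi t ⟨h1, h2, h3⟩
    rw [← h.K1 i hi] at h1
    rw [← h.A1 i hi] at h2
    rw [← h.B1 i hi] at h3
    obtain ⟨b, hb, ht⟩ := tor_lo (h.ker i hi) h1 h2 h3
    exact ⟨1, b, one_ne_zero, hb, ht⟩
  have n0 : ∀ i, i + 2 < N → ∃ a, ∃ (ha : a ≠ 0), n i = ψ i (w0 a ha) := by
    intro i hi
    obtain ⟨h1, h2, h3⟩ := hn i (by omega)
    rw [← h.K0 i hi] at h1
    rw [← h.A0 i hi, ← h.B0 i hi] at h2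
    rw [← h.A0 i hi, ← h.B0 i hi] at h3
    exact wey_up (h.ker i hi) h1 h2 h3
  have n1 : ∀ i, i + 2 < N → ∃ a, ∃ (ha : a ≠ 0), n (i + 1) = ψ i (w1 a ha) := by
    intro i hi
    obtain ⟨h1, h2, h3⟩ := hn (i + 1) (by omega)
    rw [← h.K1 i hi] at h1
    rw [← h.A1 i hi, ← h.B1 i hi] at h2
    rw [← h.A1 i hi, ← h.B1 i hi] at h3
    exact wey_lo (h.ker i hi) h1 h2 h3
  have hbr : ∀ i, i + 2 < N → ∃ s ∈ tor (K i) (A i) (B i), ∃ t ∈ tor (K (i + 1)) (A (i + 1)) (B (i + 1)),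
      n (i + 1) * n i * n (i + 1) = n i * n (i + 1) * n i * (s * t) := by
    intro i hi
    obtain ⟨a, ha, hna⟩ := n0 i hi
    obtain ⟨b, hb, hnb⟩ := n1 i hi
    refine ⟨1, Subgroup.one_mem _, 1, Subgroup.one_mem _, ?_⟩
    rw [hna, hnb, ← map_mul, ← map_mul, ← map_mul, ← map_mul, braid₀, mul_one, mul_one]
  refine ⟨⟨h.comm, hA, fun i hi => (hn i hi).1, fun i hi t ht => ht.1, hsq, ?_, ?_, ?_, hbr⟩,
    ⟨h.comm, hB, fun i hi => (hn i hi).1, fun i hi t ht => ht.1, hsq, ?_, ?_, ?_, hbr⟩,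
    fun i hi => (hn i hi).2.1, fun i hi => (hn i hi).2.2⟩
  · intro i hi t ht
    obtain ⟨a, b, ha, hb, rfl⟩ := t0 i hi t ht
    rw [← h.A1 i hi, dg12]
  · intro i hi t ht
    obtain ⟨a, b, ha, hb, rfl⟩ := t1 i hi t ht
    rw [← h.A0 i hi, dg01]
  · intro i hi
    obtain ⟨a, ha, hna⟩ := n0 i hi
    obtain ⟨b, hb, hnb⟩ := n1 i hi
    rw [hna, hnb, ← h.A0 i hi, ← h.A1 i hi, w0_12, w1_01]
  · intro i hi t ht
    obtain ⟨a, b, ha, hb, rfl⟩ := t0 i hi t ht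
    rw [← h.B1 i hi, dg21]
  · intro i hi t ht
    obtain ⟨a, b, ha, hb, rfl⟩ := t1 i hi t ht
    rw [← h.B0 i hi, dg10]
  · intro i hi
    obtain ⟨a, ha, hna⟩ := n0 i hi
    obtain ⟨b, hb, hnb⟩ := n1 i hi
    rw [hna, hnb, ← h.B0 i hi, ← h.B1 i hi, w0_21, w1_10]

theorem W02 {n : ℕ → G} (hN : 3 ≤ N) (hn : ∀ i, i + 1 < N → n i ∈ K i ∧ cc (n i) (A i) = B i ∧ cc (n i) (B i) = A i) :
    W A n 0 2 = (r02 F).map (ψ 0) := by
  obtain ⟨h1, h2, h3⟩ := hn 1 (by omega)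
  rw [← h.K1 0 (by omega)] at h1
  rw [← h.A1 0 (by omega), ← h.B1 0 (by omega)] at h2
  rw [← h.A1 0 (by omega), ← h.B1 0 (by omega)] at h3
  obtain ⟨a, ha, hna⟩ := wey_lo (h.ker 0 (by omega)) h1 h2 h3
  rw [show (2 : ℕ) = 1 + 1 from rfl, W_succ A n (show 0 < 1 by omega), show (1 : ℕ) = 0 + 1 from rfl, W_base,
    ← h.A0 0 (by omega)]
  show cc (n 1) _ = _
  rw [hna, w1_01]

theorem first {n : ℕ → G} (hN : 3 ≤ N)
    (hn : ∀ i, i + 1 < N → n i ∈ K i ∧ cc (n i) (A i) = B i ∧ cc (n i) (B i) = A i) : First A B n := by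
  have hW := h.W02 hN hn
  have hA0 := h.A0 0 (by omega)
  have hA1 : (r12 F).map (ψ 0) = A 1 := h.A1 0 (by omega)
  have hk := h.ker 0 (by omega)
  have e1 : ∀ a b : F, u01 a * u12 b = u02 (a * b) * (u12 b * u01 a) := by
    intro a b
    apply S3.ext'
    intro i j
    change ((u01 a).1 * (u12 b).1) i j = ((u02 (a * b)).1 * ((u12 b).1 * (u01 a).1)) i j
    rw [u01_val, u12_val, u02_val]
    fin_cases i <;> fin_cases j <;> simp [Matrix.mul_apply, Fin.sum_univ_three]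
  have e2 : ∀ c : F, ψ 0 (u02 c) = 1 → c = 0 := by
    intro c hc
    have h1 : u02 c ∈ Subgroup.center (S3 F) := hk hc
    have h2 := (Subgroup.mem_center_iff.1 h1) (u10 1)
    have h3 := entry h2 1 2
    rw [u10_val, u02_val] at h3
    simpa [Matrix.mul_apply, Fin.sum_univ_three] using h3
  have e3 : ∀ a b, ⁅ψ 0 (u01 a), ψ 0 (u12 b)⁆ = ψ 0 (u02 (a * b)) := by
    intro a b
    rw [commutatorElement_def, ← map_mul, e1, map_mul, map_mul]
    group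
  refine ⟨?_, ?_, ?_, ?_, ?_, ?_⟩
  · rw [← hA0]
    rintro _ ⟨x, hx, rfl⟩ _ ⟨y, hy, rfl⟩
    obtain ⟨a, rfl⟩ := mem_r01.1 hx
    obtain ⟨b, rfl⟩ := mem_r01.1 hy
    rw [← map_mul, ← map_mul]
    congr 1
    exact of_entry fun i j => by
      rw [u01_val, u01_val]
      fin_cases i <;> fin_cases j <;> simp [Matrix.mul_apply, Fin.sum_univ_three, add_comm]
  · rw [← hA0, hW]
    rintro _ ⟨x, hx, rfl⟩ _ ⟨y, hy, rfl⟩
    obtain ⟨a, rfl⟩ := mem_r01.1 hx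
    obtain ⟨b, rfl⟩ := mem_r02.1 hy
    rw [← map_mul, ← map_mul]
    congr 1
    exact of_entry fun i j => by
      rw [u01_val, u02_val]
      fin_cases i <;> fin_cases j <;> simp [Matrix.mul_apply, Fin.sum_univ_three, add_comm]
  · rw [← hA1, hW]
    rintro _ ⟨x, hx, rfl⟩ _ ⟨y, hy, rfl⟩
    obtain ⟨a, rfl⟩ := mem_r02.1 hx
    obtain ⟨b, rfl⟩ := mem_r12.1 hy
    rw [← map_mul, ← map_mul]
    congr 1
    exact of_entry fun i j => by
      rw [u12_val, u02_val]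
      fin_cases i <;> fin_cases j <;> simp [Matrix.mul_apply, Fin.sum_univ_three, add_comm]
  · rw [← hA0, ← hA1, hW]
    rintro _ ⟨x, hx, rfl⟩ _ ⟨y, hy, rfl⟩
    obtain ⟨a, rfl⟩ := mem_r01.1 hx
    obtain ⟨b, rfl⟩ := mem_r12.1 hy
    rw [e3]
    exact Subgroup.mem_map_of_mem _ (mem_r02.2 ⟨_, rfl⟩)
  · rw [← hA0, ← hA1]
    rintro _ ⟨x, hx, rfl⟩ _ ⟨y, hy, rfl⟩ hx1 hy1 h1
    obtain ⟨a, rfl⟩ := mem_r01.1 hx
    obtain ⟨b, rfl⟩ := mem_r12.1 hy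
    rw [e3] at h1
    rcases mul_eq_zero.1 (e2 _ h1) with rfl | rfl
    · exact hx1 (by
        rw [show u01 (0 : F) = 1 from S3.ext' fun i j => by fin_cases i <;> fin_cases j <;> simp [u01], map_one])
    · exact hy1 (by
        rw [show u12 (0 : F) = 1 from S3.ext' fun i j => by fin_cases i <;> fin_cases j <;> simp [u12], map_one])
  · refine ⟨ψ 0 (u01 1), ?_, fun h1 => ?_⟩
    · rw [← hA0]
      exact Subgroup.mem_map_of_mem _ (mem_r01.2 ⟨1, rfl⟩)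
    · have h2 : u01 (1 : F) = 1 := inj_up hk (r01_le (mem_r01.2 ⟨1, rfl⟩)) (Subgroup.one_mem _) (by rw [h1, map_one])
      have h3 := congrFun (congrFun (congrArg Subtype.val h2) 0) 1
      rw [u01_val] at h3
      simp at h3

end Oriented

end Cfsg.Agent.FramePlus
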