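import Cfsg.Agent.FramePlus.Oriented

/-!
# Paths of `SL(3, F)`'s in odd characteristic: orientation
-/

set_option autoImplicit false

namespace Cfsg.Agent.FramePlus

open scoped Pointwise commutatorElement MatrixGroups
open Matrix

universe u v

variable {G : Type u} [Group G] {F : Type v} [Field F]

/-- The inverse transpose automorphism of `SL(3, F)`. -/
def tau (F : Type v) [Field F] : S3 F →* S3 F where
  toFun x := (x⁻¹).transpose
  map_one' := by
    apply Subtype.ext
    simp [SpecialLinearGroup.transpose]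
  map_mul' x y := by
    apply Subtype.ext
    rw [_root_.mul_inv_rev]
    change (y⁻¹.1 * x⁻¹.1).transpose = x⁻¹.1.transpose * y⁻¹.1.transpose
    rw [Matrix.transpose_mul]

theorem tau_val (x : S3 F) : (tau F x).1 = x⁻¹.1.transpose := rfl

theorem tau_tau (x : S3 F) : tau F (tau F x) = x := by
  have h1 : ∀ y : S3 F, (y.transpose)⁻¹ = (y⁻¹).transpose := by
    intro y
    apply inv_eq_of_mul_eq_one_right
    apply Subtype.ext
    change y.1.transpose * y⁻¹.1.transpose = 1
    rw [← Matrix.transpose_mul]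
    have h2 : y⁻¹.1 * y.1 = 1 := congrArg Subtype.val (inv_mul_cancel y)
    rw [h2, Matrix.transpose_one]
  have h2 : tau F x = (x⁻¹).transpose := rfl
  have h3 : tau F (tau F x) = ((tau F x)⁻¹).transpose := rfl
  rw [h3, h2, h1, inv_inv]
  apply Subtype.ext
  exact Matrix.transpose_transpose _

theorem tau_inj {x y : S3 F} (h : tau F x = tau F y) : x = y := by
  rw [← tau_tau x, h, tau_tau]

theorem ker_tau {ψ : S3 F →* G} (hψ : ψ.ker ≤ Subgroup.center (S3 F)) :
    (ψ.comp (tau F)).ker ≤ Subgroup.center (S3 F) := by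
  intro x hx
  have h1 : tau F x ∈ Subgroup.center (S3 F) := hψ hx
  rw [Subgroup.mem_center_iff] at h1 ⊢
  intro g
  apply tau_inj
  rw [map_mul, map_mul, h1]

theorem tau_eq_of_mul {x y : S3 F} (h : x.1.transpose * y.1 = 1) : tau F x = y := by
  have h1 : (tau F x)⁻¹ = x.transpose := by
    apply inv_eq_of_mul_eq_one_right
    apply Subtype.ext
    change x⁻¹.1.transpose * x.1.transpose = 1
    rw [← Matrix.transpose_mul]
    have h2 : x.1 * x⁻¹.1 = 1 := congrArg Subtype.val (mul_inv_cancel x)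
    rw [h2, Matrix.transpose_one]
  have h2 : x.transpose * y = 1 := Subtype.ext h
  rw [← h1, inv_mul_eq_one] at h2
  exact h2

theorem tau_u01 (a : F) : tau F (u01 a) = u10 (-a) := tau_eq_of_mul (by
  rw [u01_val, u10_val]; ext i j
  fin_cases i <;> fin_cases j <;> simp [Matrix.mul_apply, Fin.sum_univ_three])

theorem tau_u10 (a : F) : tau F (u10 a) = u01 (-a) := tau_eq_of_mul (by
  rw [u01_val, u10_val]; ext i j
  fin_cases i <;> fin_cases j <;> simp [Matrix.mul_apply, Fin.sum_univ_three])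

theorem tau_u12 (a : F) : tau F (u12 a) = u21 (-a) := tau_eq_of_mul (by
  rw [u12_val, u21_val]; ext i j
  fin_cases i <;> fin_cases j <;> simp [Matrix.mul_apply, Fin.sum_univ_three])

theorem tau_u21 (a : F) : tau F (u21 a) = u12 (-a) := tau_eq_of_mul (by
  rw [u12_val, u21_val]; ext i j
  fin_cases i <;> fin_cases j <;> simp [Matrix.mul_apply, Fin.sum_univ_three])

theorem map_tau_of {f g : F → S3 F} {H H' : Subgroup (S3 F)} (hH : ∀ {y}, y ∈ H ↔ ∃ a, y = f a)
    (hH' : ∀ {y}, y ∈ H' ↔ ∃ a, y = g a) (h : ∀ a, tau F (f a) = g (-a)) (ψ : S3 F →* G) :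
    H.map (ψ.comp (tau F)) = H'.map ψ := by
  ext y
  constructor
  · rintro ⟨x, hx, rfl⟩
    obtain ⟨a, rfl⟩ := hH.1 hx
    exact ⟨g (-a), hH'.2 ⟨_, rfl⟩, by rw [MonoidHom.comp_apply, h]⟩
  · rintro ⟨x, hx, rfl⟩
    obtain ⟨a, rfl⟩ := hH'.1 hx
    exact ⟨f (-a), hH.2 ⟨_, rfl⟩, by rw [MonoidHom.comp_apply, h, neg_neg]⟩

theorem tau_up : (up F).range.map (tau F) = (up F).range := by
  have h1 : ∀ x ∈ (up F).range, tau F x ∈ (up F).range := by
    rintro _ ⟨M, rfl⟩
    refine ⟨(M⁻¹).transpose, ?_⟩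
    symm
    apply tau_eq_of_mul
    have hd := M.2
    rw [Matrix.det_fin_two] at hd
    rw [up_val, up_val]
    ext i j
    fin_cases i <;> fin_cases j <;>
      simp [Matrix.mul_apply, Fin.sum_univ_three, SpecialLinearGroup.transpose, Matrix.adjugate_fin_two]
    · linear_combination hd
    · ring
    · ring
    · linear_combination hd
  apply le_antisymm
  · rintro _ ⟨x, hx, rfl⟩
    exact h1 x hx
  · intro x hx
    exact ⟨tau F x, h1 x hx, tau_tau x⟩

theorem tau_lo : (lo F).range.map (tau F) = (lo F).range := by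
  have h1 : ∀ x ∈ (lo F).range, tau F x ∈ (lo F).range := by
    rintro _ ⟨M, rfl⟩
    refine ⟨(M⁻¹).transpose, ?_⟩
    symm
    apply tau_eq_of_mul
    have hd := M.2
    rw [Matrix.det_fin_two] at hd
    rw [lo_val, lo_val]
    ext i j
    fin_cases i <;> fin_cases j <;>
      simp [Matrix.mul_apply, Fin.sum_univ_three, SpecialLinearGroup.transpose, Matrix.adjugate_fin_two]
    · linear_combination hd
    · ring
    · ring
    · linear_combination hd
  apply le_antisymm
  · rintro _ ⟨x, hx, rfl⟩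
    exact h1 x hx
  · intro x hx
    exact ⟨tau F x, h1 x hx, tau_tau x⟩

/-- `diag(-1, -1, 1)` and `diag(1, -1, -1)` -/
def dm (F : Type v) [Field F] : S3 F := dg (-1) (-1) (neg_ne_zero.2 one_ne_zero) (neg_ne_zero.2 one_ne_zero)
def dp (F : Type v) [Field F] : S3 F := dg 1 (-1) one_ne_zero (neg_ne_zero.2 one_ne_zero)

theorem dm_val : (dm F).1 = !![-1, 0, 0; 0, -1, 0; 0, 0, 1] := by
  rw [dm, dg_val]
  simp

theorem dp_val : (dp F).1 = !![1, 0, 0; 0, -1, 0; 0, 0, -1] := by
  rw [dp, dg_val]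
  simp

theorem tau_dm : tau F (dm F) = dm F := tau_eq_of_mul (by
  rw [dm_val]; ext i j
  fin_cases i <;> fin_cases j <;> simp [Matrix.mul_apply, Fin.sum_univ_three])

theorem tau_dp : tau F (dp F) = dp F := tau_eq_of_mul (by
  rw [dp_val]; ext i j
  fin_cases i <;> fin_cases j <;> simp [Matrix.mul_apply, Fin.sum_univ_three])

/-- An element of `lo` which is inverted by `diag(-1, -1, 1)` and of `p`-power order is a root element. -/
theorem mem_of_inverted (h2 : (2 : F) ≠ 0) {p : ℕ} [Fact p.Prime] [CharP F p] {M : SpecialLinearGroup (Fin 2) F}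
    (hinv : lo F M * (dm F * lo F M) = dm F) (hp : M ^ p = 1) : lo F M ∈ r12 F ∨ lo F M ∈ r21 F := by
  have hdet := M.2
  rw [Matrix.det_fin_two] at hdet
  have hv : (lo F M).1 * ((dm F).1 * (lo F M).1) = (dm F).1 := congrArg Subtype.val hinv
  rw [lo_val, dm_val] at hv
  have e11 := congrFun (congrFun hv 1) 1
  have e12 := congrFun (congrFun hv 1) 2
  have e21 := congrFun (congrFun hv 2) 1
  have e22 := congrFun (congrFun hv 2) 2
  simp [Matrix.mul_apply, Fin.sum_univ_three] at e11 e12 e21 e22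
  -- a = e
  have hae : M.1 0 0 = M.1 1 1 := by
    have h3 : (M.1 0 0 - M.1 1 1) * (M.1 0 0 - M.1 1 1) = 0 := by
      linear_combination (-1) * e11 + e22 - 2 * hdet
    exact sub_eq_zero.1 (mul_self_eq_zero.1 h3)
  -- trace = 2
  have htr : M.1 0 0 + M.1 1 1 = 2 := by
    have h4 : (M.1 - 1) ^ p = 0 := by
      have : ExpChar F p := ExpChar.prime Fact.out
      have : CharP (Matrix (Fin 2) (Fin 2) F) p := inferInstance
      have : ExpChar (Matrix (Fin 2) (Fin 2) F) p := ExpChar.prime Fact.out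
      rw [sub_pow_expChar_of_commute _ (Commute.one_right _), one_pow]
      have h5 : M.1 ^ p = 1 := (Matrix.SpecialLinearGroup.coe_pow M p).symm.trans (congrArg Subtype.val hp)
      rw [h5, sub_self]
    have h6 : IsNilpotent (M.1 - 1).trace := Matrix.isNilpotent_trace_of_isNilpotent ⟨p, h4⟩
    have h7 := h6.eq_zero
    rw [Matrix.trace_fin_two] at h7
    simp at h7
    linear_combination h7
  have ha : M.1 0 0 = 1 := by
    have h5 : 2 * (M.1 0 0 - 1) = 0 := by linear_combination htr + hae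
    rcases mul_eq_zero.1 h5 with h6 | h6
    · exact absurd h6 h2
    · linear_combination h6
  have he : M.1 1 1 = 1 := by rw [← hae, ha]
  rw [ha, he] at hdet
  have hbc : M.1 0 1 * M.1 1 0 = 0 := by linear_combination -hdet
  rcases mul_eq_zero.1 hbc with hb | hc
  · right
    refine mem_r21.2 ⟨M.1 1 0, S3.ext' fun i j => ?_⟩
    rw [lo_val, u21_val]
    fin_cases i <;> fin_cases j <;> simp [ha, he, hb]
  · left
    refine mem_r12.2 ⟨M.1 0 1, S3.ext' fun i j => ?_⟩
    rw [lo_val, u12_val]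
    fin_cases i <;> fin_cases j <;> simp [ha, he, hc]

end Cfsg.Agent.FramePlus
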