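import Cfsg.Agent.FramePlus.Chain

/-!
# Chains of type `A`: the symmetric group permutes the root subgroups; a graded family
-/

set_option autoImplicit false

namespace Cfsg.Agent.FramePlus

open scoped Pointwise commutatorElement

universe u

variable {G : Type u} [Group G]

/-- The adjacent transposition. -/
def sw (k i : ℕ) : ℕ := if i = k then k + 1 else if i = k + 1 then k else i

namespace Half

variable {N : ℕ} {K D T : ℕ → Subgroup G} {n : ℕ → G} (h : Half N K D T n)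

include h

theorem equivariant {k : ℕ} (hk : k + 1 < N) {i j : ℕ} (hij : i < j) (hj : j < N) (hne : ¬ (i = k ∧ j = k + 1)) :
    sw k i < sw k j ∧ cc (n k) (W D n i j) = W D n (sw k i) (sw k j) := by
  unfold sw
  rcases Nat.lt_trichotomy k i with hki | rfl | hki
  · rcases Nat.lt_or_ge (k + 1) i with h1 | h1
    · rw [if_neg (by omega), if_neg (by omega), if_neg (by omega), if_neg (by omega)]
      exact ⟨hij, h.far_right h1 hij hj⟩
    · obtain rfl : i = k + 1 := by omega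
      rw [if_neg (by omega), if_pos rfl, if_neg (by omega), if_neg (by omega)]
      exact ⟨by omega, h.left j hij hj⟩
  · rw [if_pos rfl, if_neg (by omega), if_neg (by omega)]
    exact ⟨by omega, h.left' (by omega) hj⟩
  · rw [if_neg (by omega), if_neg (by omega)]
    rcases Nat.lt_trichotomy k j with hkj | rfl | hkj
    · rcases Nat.lt_or_ge (k + 1) j with h1 | h1
      · rw [if_neg (by omega), if_neg (by omega)]
        obtain ⟨k', rfl⟩ : ∃ k', k = k' + 1 := ⟨k - 1, by omega⟩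
        exact ⟨hij, h.mid (k' - i) i (by omega) j h1 hj⟩
      · obtain rfl : j = k + 1 := by omega
        rw [if_neg (by omega), if_pos rfl]
        exact ⟨by omega, h.right' hki hk⟩
    · rw [if_pos rfl]
      exact ⟨by omega, (W_succ D n hij).symm⟩
    · rw [if_neg (by omega), if_neg (by omega)]
      exact ⟨hij, h.far_left hij hkj hk⟩

end Half

/-- The root subgroups of a chain. -/
def X (A B : ℕ → Subgroup G) (n : ℕ → G) (i j : ℕ) : Subgroup G := if i < j then W A n i j else W B n j i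

/-- A chain of type `A`. -/
structure Chain (N : ℕ) (K A B T : ℕ → Subgroup G) (n : ℕ → G) : Prop where
  hA : Half N K A T n
  hB : Half N K B T n
  swap : ∀ i, i + 1 < N → cc (n i) (A i) = B i
  swap' : ∀ i, i + 1 < N → cc (n i) (B i) = A i

theorem sw_inj {k i j : ℕ} (hij : i ≠ j) : sw k i ≠ sw k j := by
  unfold sw
  split_ifs <;> omega

theorem sw_lt {k i N : ℕ} (hk : k + 1 < N) (hi : i < N) : sw k i < N := by
  unfold sw
  split_ifs <;> omega

namespace Chain

variable {N : ℕ} {K A B T : ℕ → Subgroup G} {n : ℕ → G} (h : Chain N K A B T n)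

include h

theorem equivariant {k : ℕ} (hk : k + 1 < N) {i j : ℕ} (hij : i ≠ j) (hi : i < N) (hj : j < N) :
    cc (n k) (X A B n i j) = X A B n (sw k i) (sw k j) := by
  unfold X
  rcases Nat.lt_or_gt_of_ne hij with hlt | hgt
  · rw [if_pos hlt]
    by_cases hne : i = k ∧ j = k + 1
    · obtain ⟨rfl, rfl⟩ := hne
      have h1 : sw i i = i + 1 := by simp [sw]
      have h2 : sw i (i + 1) = i := by simp [sw]
      rw [h1, h2, if_neg (by omega), W_base, W_base, h.swap i hk]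
    · obtain ⟨h1, h2⟩ := h.hA.equivariant hk hlt hj hne
      rw [if_pos h1, h2]
  · rw [if_neg (by omega)]
    by_cases hne : j = k ∧ i = k + 1
    · obtain ⟨rfl, rfl⟩ := hne
      have h1 : sw j j = j + 1 := by simp [sw]
      have h2 : sw j (j + 1) = j := by simp [sw]
      rw [h1, h2, if_pos (by omega), W_base, W_base, h.swap' j hk]
    · obtain ⟨h1, h2⟩ := h.hB.equivariant hk hgt hi hne
      rw [if_neg (by omega), h2]

end Chain

theorem swap_val {m : ℕ} (k : Fin m) (i : Fin (m + 1)) : ((Equiv.swap k.castSucc k.succ) i : ℕ) = sw k i := by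
  unfold sw
  rw [Equiv.swap_apply_def]
  by_cases h1 : i = k.castSucc
  · rw [if_pos h1, if_pos (by rw [h1]; rfl)]
    rfl
  · have h1' : ¬ ((i : ℕ) = (k : ℕ)) := fun h2 => h1 (Fin.ext h2)
    rw [if_neg h1, if_neg h1']
    by_cases h2 : i = k.succ
    · rw [if_pos h2, if_pos (by rw [h2]; rfl)]
      rfl
    · have h2' : ¬ ((i : ℕ) = (k : ℕ) + 1) := fun h3 => h2 (Fin.ext h3)
      rw [if_neg h2, if_neg h2']

/-- The root subgroups indexed by `Fin`. -/
def Y (A B : ℕ → Subgroup G) (n : ℕ → G) (m : ℕ) (i j : Fin (m + 1)) : Subgroup G := X A B n i j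

namespace Chain

variable {m : ℕ} {K A B T : ℕ → Subgroup G} {n : ℕ → G} (h : Chain (m + 1) K A B T n)

include h

/-- The symmetric group. -/
theorem exists_perm (σ : Equiv.Perm (Fin (m + 1))) :
    ∃ g : G, ∀ i j, i ≠ j → cc g (Y A B n m i j) = Y A B n m (σ i) (σ j) := by
  have h1 : σ ∈ Submonoid.closure (Set.range fun i : Fin m => Equiv.swap i.castSucc i.succ) := by
    rw [Equiv.Perm.mclosure_swap_castSucc_succ]
    exact Submonoid.mem_top σ
  induction h1 using Submonoid.closure_induction with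
  | mem τ hτ =>
    obtain ⟨k, rfl⟩ := hτ
    refine ⟨n k, fun i j hij => ?_⟩
    unfold Y
    have h2 := h.equivariant (k := k) (by omega) (i := i) (j := j) (fun h3 => hij (Fin.ext h3)) i.2 j.2
    have h3 := swap_val k i
    have h4 := swap_val k j
    simp only at h3 h4 ⊢
    rw [h2, ← h3, ← h4]
  | one => exact ⟨1, fun i j _ => by rw [cc_one]; rfl⟩
  | mul σ τ _ _ hσ hτ =>
    obtain ⟨g, hg⟩ := hσ
    obtain ⟨g', hg'⟩ := hτ
    refine ⟨g * g', fun i j hij => ?_⟩
    rw [cc_mul, hg' i j hij, hg (τ i) (τ j) (fun h2 => hij (τ.injective h2))]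
    rfl

end Chain

/-- Extension of a partial injection to a permutation. -/
theorem exists_perm_ext {m r : ℕ} (f g : Fin r → Fin (m + 1)) (hf : Function.Injective f) (hg : Function.Injective g) :
    ∃ σ : Equiv.Perm (Fin (m + 1)), ∀ i, σ (f i) = g i := by
  classical
  let e : {x // x ∈ Set.range f} ≃ {x // x ∈ Set.range g} :=
    (Equiv.ofInjective f hf).symm.trans (Equiv.ofInjective g hg)
  refine ⟨e.extendSubtype, fun i => ?_⟩
  rw [Equiv.extendSubtype_apply_of_mem e (f i) ⟨i, rfl⟩]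
  have h1 : (⟨f i, i, rfl⟩ : {x // x ∈ Set.range f}) = Equiv.ofInjective f hf i := rfl
  simp only [e, Equiv.trans_apply]
  rw [h1, Equiv.symm_apply_apply]
  rfl

/-- Local facts in the first rank two group. -/
structure First (A B : ℕ → Subgroup G) (n : ℕ → G) : Prop where
  ab : ∀ a ∈ A 0, ∀ b ∈ A 0, a * b = b * a
  row : ∀ a ∈ A 0, ∀ b ∈ W A n 0 2, a * b = b * a
  col : ∀ a ∈ W A n 0 2, ∀ b ∈ A 1, a * b = b * a
  br_mem : ∀ a ∈ A 0, ∀ b ∈ A 1, ⁅a, b⁆ ∈ W A n 0 2
  br_ne : ∀ a ∈ A 0, ∀ b ∈ A 1, a ≠ 1 → b ≠ 1 → ⁅a, b⁆ ≠ 1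
  ne : ∃ a ∈ A 0, a ≠ 1

theorem cc_comm_iff {g : G} {P Q P' Q' : Subgroup G} (hP : cc g P = P') (hQ : cc g Q = Q')
    (h : ∀ a ∈ P, ∀ b ∈ Q, a * b = b * a) : ∀ a ∈ P', ∀ b ∈ Q', a * b = b * a := by
  subst hP hQ
  intro a ha b hb
  obtain ⟨a, ha', rfl⟩ := exists_of_mem_cc ha
  obtain ⟨b, hb', rfl⟩ := exists_of_mem_cc hb
  calc g * a * g⁻¹ * (g * b * g⁻¹) = g * (a * b) * g⁻¹ := by group
    _ = g * (b * a) * g⁻¹ := by rw [h a ha' b hb']
    _ = _ := by group

namespace Chain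

variable {m : ℕ} {K A B T : ℕ → Subgroup G} {n : ℕ → G} (h : Chain (m + 1) K A B T n)

include h

theorem graded (hm : 3 ≤ m) (h1 : First A B n) : AGraded.Graded (Y A B n m) := by
  classical
  let f0 : Fin (m + 1) := ⟨0, by omega⟩
  let f1 : Fin (m + 1) := ⟨1, by omega⟩
  let f2 : Fin (m + 1) := ⟨2, by omega⟩
  let f3 : Fin (m + 1) := ⟨3, by omega⟩
  have h01 : Y A B n m f0 f1 = A 0 := by
    show X A B n 0 1 = A 0
    rw [X, if_pos (by omega), W_base]
  have h12 : Y A B n m f1 f2 = A 1 := by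
    show X A B n 1 2 = A 1
    rw [X, if_pos (by omega), W_base]
  have h02 : Y A B n m f0 f2 = W A n 0 2 := by
    show X A B n 0 2 = _
    rw [X, if_pos (by omega)]
  have h23 : Y A B n m f2 f3 = A 2 := by
    show X A B n 2 3 = A 2
    rw [X, if_pos (by omega), W_base]
  have e01 : f0 ≠ f1 := by simp [f0, f1]
  have e02 : f0 ≠ f2 := by simp [f0, f2]
  have e12 : f1 ≠ f2 := by simp [f1, f2]
  have e23 : f2 ≠ f3 := by simp [f2, f3]
  have e03 : f0 ≠ f3 := by simp [f0, f3]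
  have e13 : f1 ≠ f3 := by simp [f1, f3]
  have inj3 : ∀ a b c : Fin (m + 1), a ≠ b → a ≠ c → b ≠ c → Function.Injective ![a, b, c] := by
    intro a b c hab hac hbc i j hij
    fin_cases i <;> fin_cases j <;> simp_all
  have inj4 : ∀ a b c d : Fin (m + 1), a ≠ b → a ≠ c → a ≠ d → b ≠ c → b ≠ d → c ≠ d →
      Function.Injective ![a, b, c, d] := by
    intro a b c d hab hac had hbc hbd hcd i j hij
    fin_cases i <;> fin_cases j <;> simp_all
  have inj2 : ∀ a b : Fin (m + 1), a ≠ b → Function.Injective ![a, b] := by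
    intro a b hab i j hij
    fin_cases i <;> fin_cases j <;> simp_all
  -- conjugation
  have P3 : ∀ a b c, a ≠ b → a ≠ c → b ≠ c → ∃ g : G, cc g (A 0) = Y A B n m a b ∧ cc g (A 1) = Y A B n m b c ∧
      cc g (W A n 0 2) = Y A B n m a c := by
    intro a b c hab hac hbc
    obtain ⟨σ, hσ⟩ := exists_perm_ext ![f0, f1, f2] ![a, b, c] (inj3 _ _ _ e01 e02 e12) (inj3 _ _ _ hab hac hbc)
    obtain ⟨g, hg⟩ := h.exists_perm σ
    have s0 : σ f0 = a := hσ 0
    have s1 : σ f1 = b := hσ 1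
    have s2 : σ f2 = c := hσ 2
    refine ⟨g, ?_, ?_, ?_⟩
    · rw [← h01, hg _ _ e01, s0, s1]
    · rw [← h12, hg _ _ e12, s1, s2]
    · rw [← h02, hg _ _ e02, s0, s2]
  have P4 : ∀ a b c d, a ≠ b → a ≠ c → a ≠ d → b ≠ c → b ≠ d → c ≠ d →
      ∃ g : G, cc g (A 0) = Y A B n m a b ∧ cc g (A 2) = Y A B n m c d := by
    intro a b c d hab hac had hbc hbd hcd
    obtain ⟨σ, hσ⟩ := exists_perm_ext ![f0, f1, f2, f3] ![a, b, c, d] (inj4 _ _ _ _ e01 e02 e03 e12 e13 e23)
      (inj4 _ _ _ _ hab hac had hbc hbd hcd)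
    obtain ⟨g, hg⟩ := h.exists_perm σ
    have s0 : σ f0 = a := hσ 0
    have s1 : σ f1 = b := hσ 1
    have s2 : σ f2 = c := hσ 2
    have s3 : σ f3 = d := hσ 3
    refine ⟨g, ?_, ?_⟩
    · rw [← h01, hg _ _ e01, s0, s1]
    · rw [← h23, hg _ _ e23, s2, s3]
  have P2 : ∀ a b, a ≠ b → ∃ g : G, cc g (A 0) = Y A B n m a b := by
    intro a b hab
    obtain ⟨σ, hσ⟩ := exists_perm_ext ![f0, f1] ![a, b] (inj2 _ _ e01) (inj2 _ _ hab)
    obtain ⟨g, hg⟩ := h.exists_perm σ
    have s0 : σ f0 = a := hσ 0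
    have s1 : σ f1 = b := hσ 1
    exact ⟨g, by rw [← h01, hg _ _ e01, s0, s1]⟩
  refine ⟨?_, ?_, ?_, ?_⟩
  · intro i j k l hij hkl hjk hil
    by_cases hik : i = k
    · subst hik
      by_cases hjl : j = l
      · subst hjl
        obtain ⟨g, hg⟩ := P2 i j hij
        exact cc_comm_iff hg hg h1.ab
      · obtain ⟨g, hg1, -, hg2⟩ := P3 i j l hij hkl hjl
        exact cc_comm_iff hg1 hg2 h1.row
    · by_cases hjl : j = l
      · subst hjl
        obtain ⟨g, -, hg1, hg2⟩ := P3 i k j hik hij hkl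
        exact cc_comm_iff hg2 hg1 h1.col
      · obtain ⟨g, hg1, hg2⟩ := P4 i j k l hij hik hil hjk hjl hkl
        refine cc_comm_iff hg1 hg2 fun a ha b hb => ?_
        exact h.hA.comm 0 2 le_rfl (by omega) a (h.hA.D_le 0 (by omega) ha) b (h.hA.D_le 2 (by omega) hb)
  · intro i j k hij hjk hik a ha b hb
    obtain ⟨g, hg1, hg2, hg3⟩ := P3 i j k hij hik hjk
    rw [← hg1] at ha
    rw [← hg2] at hb
    rw [← hg3]
    obtain ⟨a, ha', rfl⟩ := exists_of_mem_cc ha
    obtain ⟨b, hb', rfl⟩ := exists_of_mem_cc hb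
    rw [← MulAut.conj_apply, ← MulAut.conj_apply, ← map_commutatorElement, MulAut.conj_apply]
    exact conj_mem_cc (h1.br_mem a ha' b hb')
  · intro i j k hij hjk hik a ha b hb ha1 hb1 h2
    obtain ⟨g, hg1, hg2, hg3⟩ := P3 i j k hij hik hjk
    rw [← hg1] at ha
    rw [← hg2] at hb
    obtain ⟨a, ha', rfl⟩ := exists_of_mem_cc ha
    obtain ⟨b, hb', rfl⟩ := exists_of_mem_cc hb
    rw [← MulAut.conj_apply, ← MulAut.conj_apply, ← map_commutatorElement, MulEquiv.map_eq_one_iff] at h2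
    refine h1.br_ne a ha' b hb' ?_ ?_ h2
    · rintro rfl
      exact ha1 (by group)
    · rintro rfl
      exact hb1 (by group)
  · intro i j hij
    obtain ⟨g, hg⟩ := P2 i j hij
    obtain ⟨a, ha, ha1⟩ := h1.ne
    refine ⟨g * a * g⁻¹, hg ▸ conj_mem_cc ha, fun h2 => ha1 ?_⟩
    rwa [conj_eq_one_iff] at h2

end Chain

end Cfsg.Agent.FramePlus
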