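import Cfsg.Agent.FramePlus.Perm

/-!
# `SL(3, F)`: the two standard subgroups `SL(2, F)`, root subgroups, tori, Weyl elements
-/

set_option autoImplicit false

namespace Cfsg.Agent.FramePlus

open scoped Pointwise commutatorElement MatrixGroups
open Matrix

universe u v

variable {G : Type u} [Group G] {F : Type v} [Field F]

/-- `SL(3, F)`. -/
abbrev S3 (F : Type v) [Field F] := SpecialLinearGroup (Fin 3) F

theorem S3.ext' {x y : S3 F} (h : ∀ i j, x.1 i j = y.1 i j) : x = y := Subtype.ext (Matrix.ext h)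

/-- upper left embedding -/
def upM (M : SpecialLinearGroup (Fin 2) F) : S3 F := ⟨!![M.1 0 0, M.1 0 1, 0; M.1 1 0, M.1 1 1, 0; 0, 0, 1], by
    have h := M.2
    rw [Matrix.det_fin_two] at h
    rw [Matrix.det_fin_three]
    simp
    linear_combination h⟩

/-- lower right embedding -/
def loM (M : SpecialLinearGroup (Fin 2) F) : S3 F := ⟨!![1, 0, 0; 0, M.1 0 0, M.1 0 1; 0, M.1 1 0, M.1 1 1], by
    have h := M.2
    rw [Matrix.det_fin_two] at h
    rw [Matrix.det_fin_three]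
    simp
    linear_combination h⟩

/-- upper left embedding -/
def up (F : Type v) [Field F] : SpecialLinearGroup (Fin 2) F →* S3 F where
  toFun M := upM M
  map_one' := by
    apply S3.ext'
    intro i j
    fin_cases i <;> fin_cases j <;> simp [upM]
  map_mul' M M' := by
    apply S3.ext'
    intro i j
    change (upM (M * M')).1 i j = ((upM M).1 * (upM M').1) i j
    fin_cases i <;> fin_cases j <;> simp [upM, Matrix.mul_apply, Fin.sum_univ_three, Fin.sum_univ_two]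

/-- lower right embedding -/
def lo (F : Type v) [Field F] : SpecialLinearGroup (Fin 2) F →* S3 F where
  toFun M := loM M
  map_one' := by
    apply S3.ext'
    intro i j
    fin_cases i <;> fin_cases j <;> simp [loM]
  map_mul' M M' := by
    apply S3.ext'
    intro i j
    change (loM (M * M')).1 i j = ((loM M).1 * (loM M').1) i j
    fin_cases i <;> fin_cases j <;> simp [loM, Matrix.mul_apply, Fin.sum_univ_three, Fin.sum_univ_two]

theorem up_val (M : SpecialLinearGroup (Fin 2) F) :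
    (up F M).1 = !![M.1 0 0, M.1 0 1, 0; M.1 1 0, M.1 1 1, 0; 0, 0, 1] := rfl

theorem lo_val (M : SpecialLinearGroup (Fin 2) F) :
    (lo F M).1 = !![1, 0, 0; 0, M.1 0 0, M.1 0 1; 0, M.1 1 0, M.1 1 1] := rfl

theorem S3.mul_val (x y : S3 F) : (x * y).1 = x.1 * y.1 := rfl

/-- upper unipotent -/
def uuM (a : F) : SpecialLinearGroup (Fin 2) F := ⟨!![1, a; 0, 1], by simp⟩

/-- lower unipotent -/
def llM (a : F) : SpecialLinearGroup (Fin 2) F := ⟨!![1, 0; a, 1], by simp⟩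

/-- upper unipotent -/
def uu (F : Type v) [Field F] : Multiplicative F →* SpecialLinearGroup (Fin 2) F where
  toFun a := uuM a.toAdd
  map_one' := by
    apply Subtype.ext; ext i j
    fin_cases i <;> fin_cases j <;> simp [uuM]
  map_mul' a b := by
    apply Subtype.ext; ext i j
    change (uuM (a.toAdd + b.toAdd)).1 i j = ((uuM a.toAdd).1 * (uuM b.toAdd).1) i j
    fin_cases i <;> fin_cases j <;> simp [uuM, Matrix.mul_apply, Fin.sum_univ_two, add_comm]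

/-- lower unipotent -/
def ll (F : Type v) [Field F] : Multiplicative F →* SpecialLinearGroup (Fin 2) F where
  toFun a := llM a.toAdd
  map_one' := by
    apply Subtype.ext; ext i j
    fin_cases i <;> fin_cases j <;> simp [llM]
  map_mul' a b := by
    apply Subtype.ext; ext i j
    change (llM (a.toAdd + b.toAdd)).1 i j = ((llM a.toAdd).1 * (llM b.toAdd).1) i j
    fin_cases i <;> fin_cases j <;> simp [llM, Matrix.mul_apply, Fin.sum_univ_two, add_comm]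

theorem uu_val (a : Multiplicative F) : (uu F a).1 = !![1, a.toAdd; 0, 1] := rfl

theorem ll_val (a : Multiplicative F) : (ll F a).1 = !![1, 0; a.toAdd, 1] := rfl

/-- The root subgroups. -/
def r01 (F : Type v) [Field F] : Subgroup (S3 F) := ((up F).comp (uu F)).range
def r10 (F : Type v) [Field F] : Subgroup (S3 F) := ((up F).comp (ll F)).range
def r12 (F : Type v) [Field F] : Subgroup (S3 F) := ((lo F).comp (uu F)).range
def r21 (F : Type v) [Field F] : Subgroup (S3 F) := ((lo F).comp (ll F)).range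

/-- `1 + a e_02` -/
def u02 (a : F) : S3 F := ⟨!![1, 0, a; 0, 1, 0; 0, 0, 1], by rw [Matrix.det_fin_three]; simp⟩
def u20 (a : F) : S3 F := ⟨!![1, 0, 0; 0, 1, 0; a, 0, 1], by rw [Matrix.det_fin_three]; simp⟩
def u01 (a : F) : S3 F := ⟨!![1, a, 0; 0, 1, 0; 0, 0, 1], by rw [Matrix.det_fin_three]; simp⟩
def u10 (a : F) : S3 F := ⟨!![1, 0, 0; a, 1, 0; 0, 0, 1], by rw [Matrix.det_fin_three]; simp⟩
def u12 (a : F) : S3 F := ⟨!![1, 0, 0; 0, 1, a; 0, 0, 1], by rw [Matrix.det_fin_three]; simp⟩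
def u21 (a : F) : S3 F := ⟨!![1, 0, 0; 0, 1, 0; 0, a, 1], by rw [Matrix.det_fin_three]; simp⟩

theorem mem_r01 {x : S3 F} : x ∈ r01 F ↔ ∃ a, x = u01 a := by
  constructor
  · rintro ⟨a, rfl⟩
    exact ⟨a.toAdd, by apply S3.ext'; intro i j; fin_cases i <;> fin_cases j <;> simp [up_val, uu_val, u01]⟩
  · rintro ⟨a, rfl⟩
    exact ⟨Multiplicative.ofAdd a, by apply S3.ext'; intro i j; fin_cases i <;> fin_cases j <;> simp [up_val, uu_val, u01]⟩

theorem mem_r10 {x : S3 F} : x ∈ r10 F ↔ ∃ a, x = u10 a := by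
  constructor
  · rintro ⟨a, rfl⟩
    exact ⟨a.toAdd, by apply S3.ext'; intro i j; fin_cases i <;> fin_cases j <;> simp [up_val, ll_val, u10]⟩
  · rintro ⟨a, rfl⟩
    exact ⟨Multiplicative.ofAdd a, by apply S3.ext'; intro i j; fin_cases i <;> fin_cases j <;> simp [up_val, ll_val, u10]⟩

theorem mem_r12 {x : S3 F} : x ∈ r12 F ↔ ∃ a, x = u12 a := by
  constructor
  · rintro ⟨a, rfl⟩
    exact ⟨a.toAdd, by apply S3.ext'; intro i j; fin_cases i <;> fin_cases j <;> simp [lo_val, uu_val, u12]⟩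
  · rintro ⟨a, rfl⟩
    exact ⟨Multiplicative.ofAdd a, by apply S3.ext'; intro i j; fin_cases i <;> fin_cases j <;> simp [lo_val, uu_val, u12]⟩

theorem mem_r21 {x : S3 F} : x ∈ r21 F ↔ ∃ a, x = u21 a := by
  constructor
  · rintro ⟨a, rfl⟩
    exact ⟨a.toAdd, by apply S3.ext'; intro i j; fin_cases i <;> fin_cases j <;> simp [lo_val, ll_val, u21]⟩
  · rintro ⟨a, rfl⟩
    exact ⟨Multiplicative.ofAdd a, by apply S3.ext'; intro i j; fin_cases i <;> fin_cases j <;> simp [lo_val, ll_val, u21]⟩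

theorem r01_le : r01 F ≤ (up F).range := by
  rintro _ ⟨a, rfl⟩
  exact ⟨_, rfl⟩

theorem r10_le : r10 F ≤ (up F).range := by
  rintro _ ⟨a, rfl⟩
  exact ⟨_, rfl⟩

theorem r12_le : r12 F ≤ (lo F).range := by
  rintro _ ⟨a, rfl⟩
  exact ⟨_, rfl⟩

theorem r21_le : r21 F ≤ (lo F).range := by
  rintro _ ⟨a, rfl⟩
  exact ⟨_, rfl⟩

theorem u01_val (a : F) : (u01 a).1 = !![1, a, 0; 0, 1, 0; 0, 0, 1] := rfl
theorem u10_val (a : F) : (u10 a).1 = !![1, 0, 0; a, 1, 0; 0, 0, 1] := rfl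
theorem u12_val (a : F) : (u12 a).1 = !![1, 0, 0; 0, 1, a; 0, 0, 1] := rfl
theorem u21_val (a : F) : (u21 a).1 = !![1, 0, 0; 0, 1, 0; 0, a, 1] := rfl
theorem u02_val (a : F) : (u02 a).1 = !![1, 0, a; 0, 1, 0; 0, 0, 1] := rfl
theorem u20_val (a : F) : (u20 a).1 = !![1, 0, 0; 0, 1, 0; a, 0, 1] := rfl

theorem entry {x y z w : S3 F} (h : x * y = z * w) (i j : Fin 3) : (x.1 * y.1) i j = (z.1 * w.1) i j :=
  congrFun (congrFun (congrArg Subtype.val h) i) j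

theorem of_entry {x y z w : S3 F} (h : ∀ i j : Fin 3, (x.1 * y.1) i j = (z.1 * w.1) i j) : x * y = z * w :=
  S3.ext' h

/-- Diagonal matrices. -/
def dg (a b : F) (ha : a ≠ 0) (hb : b ≠ 0) : S3 F :=
  ⟨!![a, 0, 0; 0, b, 0; 0, 0, (a * b)⁻¹], by rw [Matrix.det_fin_three]; simp; field_simp⟩

/-- Weyl elements. -/
def w0 (a : F) (ha : a ≠ 0) : S3 F := ⟨!![0, a, 0; -a⁻¹, 0, 0; 0, 0, 1], by rw [Matrix.det_fin_three]; simp [ha]⟩
def w1 (a : F) (ha : a ≠ 0) : S3 F := ⟨!![1, 0, 0; 0, 0, a; 0, -a⁻¹, 0], by rw [Matrix.det_fin_three]; simp [ha]⟩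

/-- Central elements of `SL(3, F)` in `up` or `lo` are trivial. -/
theorem eq_one_of_center_up {x : S3 F} (hx : x ∈ Subgroup.center (S3 F)) (hx' : x ∈ (up F).range) : x = 1 := by
  obtain ⟨M, rfl⟩ := hx'
  rw [Matrix.SpecialLinearGroup.mem_center_iff] at hx
  obtain ⟨r, -, hr⟩ := hx
  have h1 := congrFun (congrFun hr 2) 2
  have h2 : r = 1 := by simpa [up_val, Matrix.scalar_apply] using h1
  subst h2
  exact Subtype.ext (by rw [← hr]; simp)

theorem eq_one_of_center_lo {x : S3 F} (hx : x ∈ Subgroup.center (S3 F)) (hx' : x ∈ (lo F).range) : x = 1 := by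
  obtain ⟨M, rfl⟩ := hx'
  rw [Matrix.SpecialLinearGroup.mem_center_iff] at hx
  obtain ⟨r, -, hr⟩ := hx
  have h1 := congrFun (congrFun hr 0) 0
  have h2 : r = 1 := by simpa [lo_val, Matrix.scalar_apply] using h1
  subst h2
  exact Subtype.ext (by rw [← hr]; simp)

variable {ψ : S3 F →* G} (hψ : ψ.ker ≤ Subgroup.center (S3 F))

include hψ

theorem inj_up {x y : S3 F} (hx : x ∈ (up F).range) (hy : y ∈ (up F).range) (h : ψ x = ψ y) : x = y := by
  have h1 : x * y⁻¹ = 1 := eq_one_of_center_up (hψ (by rw [MonoidHom.mem_ker, map_mul, map_inv, h, mul_inv_cancel]))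
    (Subgroup.mul_mem _ hx (Subgroup.inv_mem _ hy))
  exact mul_inv_eq_one.1 h1

theorem inj_lo {x y : S3 F} (hx : x ∈ (lo F).range) (hy : y ∈ (lo F).range) (h : ψ x = ψ y) : x = y := by
  have h1 : x * y⁻¹ = 1 := eq_one_of_center_lo (hψ (by rw [MonoidHom.mem_ker, map_mul, map_inv, h, mul_inv_cancel]))
    (Subgroup.mul_mem _ hx (Subgroup.inv_mem _ hy))
  exact mul_inv_eq_one.1 h1

/-- conjugation of root groups by elements of `up`. -/
theorem cc_le_up {x : S3 F} (hx : x ∈ (up F).range) {H H' : Subgroup (S3 F)} (hH : H ≤ (up F).range)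
    (hH' : H' ≤ (up F).range) (h : cc (ψ x) (H.map ψ) = H'.map ψ) {y : S3 F} (hy : y ∈ H) : x * y * x⁻¹ ∈ H' := by
  have h1 : ψ x * ψ y * (ψ x)⁻¹ ∈ H'.map ψ := h ▸ conj_mem_cc (Subgroup.mem_map_of_mem ψ hy)
  obtain ⟨z, hz, hzy⟩ := h1
  have h2 : z = x * y * x⁻¹ := inj_up hψ (hH' hz)
    (Subgroup.mul_mem _ (Subgroup.mul_mem _ hx (hH hy)) (Subgroup.inv_mem _ hx)) (by rw [hzy]; simp)
  rwa [← h2]

theorem cc_le_lo {x : S3 F} (hx : x ∈ (lo F).range) {H H' : Subgroup (S3 F)} (hH : H ≤ (lo F).range)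
    (hH' : H' ≤ (lo F).range) (h : cc (ψ x) (H.map ψ) = H'.map ψ) {y : S3 F} (hy : y ∈ H) : x * y * x⁻¹ ∈ H' := by
  have h1 : ψ x * ψ y * (ψ x)⁻¹ ∈ H'.map ψ := h ▸ conj_mem_cc (Subgroup.mem_map_of_mem ψ hy)
  obtain ⟨z, hz, hzy⟩ := h1
  have h2 : z = x * y * x⁻¹ := inj_lo hψ (hH' hz)
    (Subgroup.mul_mem _ (Subgroup.mul_mem _ hx (hH hy)) (Subgroup.inv_mem _ hx)) (by rw [hzy]; simp)
  rwa [← h2]

omit hψ in
/-- If `M U M⁻¹ ≤ U` then `M 1 0 = 0`, etc. -/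
theorem up_uu {M : SpecialLinearGroup (Fin 2) F} (h : up F M * u01 1 * (up F M)⁻¹ ∈ r01 F) : M.1 1 0 = 0 := by
  obtain ⟨b, hb⟩ := mem_r01.1 h
  rw [mul_inv_eq_iff_eq_mul] at hb
  have h1 := entry hb 1 1
  simp [up_val, u01_val, Matrix.mul_apply, Fin.sum_univ_three] at h1
  exact h1

omit hψ in
theorem up_ll {M : SpecialLinearGroup (Fin 2) F} (h : up F M * u10 1 * (up F M)⁻¹ ∈ r10 F) : M.1 0 1 = 0 := by
  obtain ⟨b, hb⟩ := mem_r10.1 h
  rw [mul_inv_eq_iff_eq_mul] at hb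
  have h1 := entry hb 0 0
  simp [up_val, u10_val, Matrix.mul_apply, Fin.sum_univ_three] at h1
  exact h1

omit hψ in
theorem up_ul {M : SpecialLinearGroup (Fin 2) F} (h : up F M * u01 1 * (up F M)⁻¹ ∈ r10 F) : M.1 0 0 = 0 := by
  obtain ⟨b, hb⟩ := mem_r10.1 h
  rw [mul_inv_eq_iff_eq_mul] at hb
  have h1 := entry hb 0 1
  simp [up_val, u01_val, u10_val, Matrix.mul_apply, Fin.sum_univ_three] at h1
  exact h1

omit hψ in
theorem up_lu {M : SpecialLinearGroup (Fin 2) F} (h : up F M * u10 1 * (up F M)⁻¹ ∈ r01 F) : M.1 1 1 = 0 := by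
  obtain ⟨b, hb⟩ := mem_r01.1 h
  rw [mul_inv_eq_iff_eq_mul] at hb
  have h1 := entry hb 1 0
  simp [up_val, u01_val, u10_val, Matrix.mul_apply, Fin.sum_univ_three] at h1
  exact h1

omit hψ in
theorem lo_uu {M : SpecialLinearGroup (Fin 2) F} (h : lo F M * u12 1 * (lo F M)⁻¹ ∈ r12 F) : M.1 1 0 = 0 := by
  obtain ⟨b, hb⟩ := mem_r12.1 h
  rw [mul_inv_eq_iff_eq_mul] at hb
  have h1 := entry hb 2 2
  simp [lo_val, u12_val, Matrix.mul_apply, Fin.sum_univ_three] at h1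
  exact h1

omit hψ in
theorem lo_ll {M : SpecialLinearGroup (Fin 2) F} (h : lo F M * u21 1 * (lo F M)⁻¹ ∈ r21 F) : M.1 0 1 = 0 := by
  obtain ⟨b, hb⟩ := mem_r21.1 h
  rw [mul_inv_eq_iff_eq_mul] at hb
  have h1 := entry hb 1 1
  simp [lo_val, u21_val, Matrix.mul_apply, Fin.sum_univ_three] at h1
  exact h1

omit hψ in
theorem lo_ul {M : SpecialLinearGroup (Fin 2) F} (h : lo F M * u12 1 * (lo F M)⁻¹ ∈ r21 F) : M.1 0 0 = 0 := by
  obtain ⟨b, hb⟩ := mem_r21.1 h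
  rw [mul_inv_eq_iff_eq_mul] at hb
  have h1 := entry hb 1 2
  simp [lo_val, u12_val, u21_val, Matrix.mul_apply, Fin.sum_univ_three] at h1
  exact h1

omit hψ in
theorem lo_lu {M : SpecialLinearGroup (Fin 2) F} (h : lo F M * u21 1 * (lo F M)⁻¹ ∈ r12 F) : M.1 1 1 = 0 := by
  obtain ⟨b, hb⟩ := mem_r12.1 h
  rw [mul_inv_eq_iff_eq_mul] at hb
  have h1 := entry hb 2 1
  simp [lo_val, u12_val, u21_val, Matrix.mul_apply, Fin.sum_univ_three] at h1
  exact h1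

/-- Torus elements. -/
theorem tor_up {t : G} (ht : t ∈ (up F).range.map ψ) (h1 : cc t ((r01 F).map ψ) = (r01 F).map ψ)
    (h2 : cc t ((r10 F).map ψ) = (r10 F).map ψ) : ∃ a b, ∃ (ha : a ≠ 0) (hb : b ≠ 0), a * b = 1 ∧ t = ψ (dg a b ha hb) := by
  obtain ⟨_, ⟨M, rfl⟩, rfl⟩ := ht
  have e1 := up_uu (cc_le_up hψ ⟨M, rfl⟩ r01_le r01_le h1 (mem_r01.2 ⟨1, rfl⟩))
  have e2 := up_ll (cc_le_up hψ ⟨M, rfl⟩ r10_le r10_le h2 (mem_r10.2 ⟨1, rfl⟩))
  have hd := M.2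
  rw [Matrix.det_fin_two, e1, e2] at hd
  have hd' : M.1 0 0 * M.1 1 1 = 1 := by linear_combination hd
  have ha : M.1 0 0 ≠ 0 := left_ne_zero_of_mul_eq_one hd'
  have hb : M.1 1 1 ≠ 0 := right_ne_zero_of_mul_eq_one hd'
  refine ⟨_, _, ha, hb, hd', congrArg ψ (S3.ext' fun i j => ?_)⟩
  fin_cases i <;> fin_cases j <;> simp [up_val, dg, e1, e2]
  rw [← mul_inv, mul_comm, hd', inv_one]

theorem tor_lo {t : G} (ht : t ∈ (lo F).range.map ψ) (h1 : cc t ((r12 F).map ψ) = (r12 F).map ψ)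
    (h2 : cc t ((r21 F).map ψ) = (r21 F).map ψ) : ∃ b, ∃ (hb : b ≠ 0), t = ψ (dg 1 b one_ne_zero hb) := by
  obtain ⟨_, ⟨M, rfl⟩, rfl⟩ := ht
  have e1 := lo_uu (cc_le_lo hψ ⟨M, rfl⟩ r12_le r12_le h1 (mem_r12.2 ⟨1, rfl⟩))
  have e2 := lo_ll (cc_le_lo hψ ⟨M, rfl⟩ r21_le r21_le h2 (mem_r21.2 ⟨1, rfl⟩))
  have hd := M.2
  rw [Matrix.det_fin_two, e1, e2] at hd
  have hd' : M.1 0 0 * M.1 1 1 = 1 := by linear_combination hd
  have ha : M.1 0 0 ≠ 0 := left_ne_zero_of_mul_eq_one hd'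
  refine ⟨_, ha, congrArg ψ (S3.ext' fun i j => ?_)⟩
  fin_cases i <;> fin_cases j <;> simp [lo_val, dg, e1, e2]
  exact eq_inv_of_mul_eq_one_right hd'

/-- Weyl elements. -/
theorem wey_up {t : G} (ht : t ∈ (up F).range.map ψ) (h1 : cc t ((r01 F).map ψ) = (r10 F).map ψ)
    (h2 : cc t ((r10 F).map ψ) = (r01 F).map ψ) : ∃ a, ∃ (ha : a ≠ 0), t = ψ (w0 a ha) := by
  obtain ⟨_, ⟨M, rfl⟩, rfl⟩ := ht
  have e1 := up_ul (cc_le_up hψ ⟨M, rfl⟩ r01_le r10_le h1 (mem_r01.2 ⟨1, rfl⟩))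
  have e2 := up_lu (cc_le_up hψ ⟨M, rfl⟩ r10_le r01_le h2 (mem_r10.2 ⟨1, rfl⟩))
  have hd := M.2
  rw [Matrix.det_fin_two, e1, e2] at hd
  have hd' : M.1 0 1 * M.1 1 0 = -1 := by linear_combination -hd
  have ha : M.1 0 1 ≠ 0 := fun h => by rw [h, zero_mul] at hd'; simp at hd'
  refine ⟨_, ha, congrArg ψ (S3.ext' fun i j => ?_)⟩
  fin_cases i <;> fin_cases j <;> simp [up_val, w0, e1, e2]
  field_simp
  linear_combination hd'

theorem wey_lo {t : G} (ht : t ∈ (lo F).range.map ψ) (h1 : cc t ((r12 F).map ψ) = (r21 F).map ψ)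
    (h2 : cc t ((r21 F).map ψ) = (r12 F).map ψ) : ∃ a, ∃ (ha : a ≠ 0), t = ψ (w1 a ha) := by
  obtain ⟨_, ⟨M, rfl⟩, rfl⟩ := ht
  have e1 := lo_ul (cc_le_lo hψ ⟨M, rfl⟩ r12_le r21_le h1 (mem_r12.2 ⟨1, rfl⟩))
  have e2 := lo_lu (cc_le_lo hψ ⟨M, rfl⟩ r21_le r12_le h2 (mem_r21.2 ⟨1, rfl⟩))
  have hd := M.2
  rw [Matrix.det_fin_two, e1, e2] at hd
  have hd' : M.1 0 1 * M.1 1 0 = -1 := by linear_combination -hd
  have ha : M.1 0 1 ≠ 0 := fun h => by rw [h, zero_mul] at hd'; simp at hd'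
  refine ⟨_, ha, congrArg ψ (S3.ext' fun i j => ?_)⟩
  fin_cases i <;> fin_cases j <;> simp [lo_val, w1, e1, e2]
  field_simp
  linear_combination hd'

end Cfsg.Agent.FramePlus
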